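import Groth.Agent.W4bk4grassmannian.K676.ShuffleVanish
import Groth.Agent.W4bk4grassmannian.K677.LIGr

/-! Ideals of unions of Schubert varieties: generators, standard monomial bases, lattice of ideals, primality. -/

set_option autoImplicit false
universe u v

open MvPolynomial W4bk4grassmannian K676.Straighten K676.ShuffleAlt K676.ShuffleVanish

namespace K676.Schubert

variable (K : Type u) {d n : ℕ}

section ring

variable [CommRing K]

/-- The ideal generated by the shuffle relations and the coordinates outside `W`. -/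
noncomputable def IW (W : Set (Idx d n)) : Ideal (PlRing K d n) :=
  plIdealTop (d := d) (n := n) K ⊔ Ideal.span {f | ∃ θ : Idx d n, θ ∉ W ∧ f = X θ}

/-- The ideal of the union of the Schubert varieties `X(w)`, `w ∈ W`. -/
noncomputable def JW (W : Set (Idx d n)) : Ideal (PlRing K d n) :=
  ⨅ w ∈ W, schubertVanishing K d n w

/-- Chains all of whose members lie below a member of `W`. -/
abbrev Ch (W : Set (Idx d n)) : Type :=
  Σ m : ℕ, {c : Fin m → Idx d n // Antitone c ∧ ∃ w ∈ W, ∀ k, c k ≤ w}

theorem X_mem_IW {W : Set (Idx d n)} {θ : Idx d n} (h : θ ∉ W) : (X θ : PlRing K d n) ∈ IW K W :=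
  Ideal.mem_sup_right (Ideal.subset_span ⟨θ, h, rfl⟩)

theorem plIdealTop_le_IW (W : Set (Idx d n)) : plIdealTop K ≤ IW K W := le_sup_left

theorem IW_anti {V W : Set (Idx d n)} (h : V ⊆ W) : IW K W ≤ IW K V := by
  refine sup_le_sup_left (Ideal.span_mono ?_) _
  rintro _ ⟨θ, hθ, rfl⟩
  exact ⟨θ, fun hV => hθ (h hV), rfl⟩

theorem IW_sup (V W : Set (Idx d n)) : IW K V ⊔ IW K W = IW K (V ∩ W) := by
  apply le_antisymm
  · exact sup_le (IW_anti K Set.inter_subset_left) (IW_anti K Set.inter_subset_right)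
  · unfold IW
    refine sup_le (le_sup_of_le_left le_sup_left) ?_
    rw [Ideal.span_le]
    rintro _ ⟨θ, hθ, rfl⟩
    by_cases h : θ ∈ V
    · exact Ideal.mem_sup_right (Ideal.mem_sup_right (Ideal.subset_span ⟨θ, fun hW => hθ ⟨h, hW⟩, rfl⟩))
    · exact Ideal.mem_sup_left (Ideal.mem_sup_right (Ideal.subset_span ⟨θ, h, rfl⟩))

theorem JW_anti {V W : Set (Idx d n)} (h : V ⊆ W) : JW K W ≤ JW K V :=
  biInf_mono h

theorem JW_union (V W : Set (Idx d n)) : JW K (V ∪ W) = JW K V ⊓ JW K W := by
  unfold JW; exact iInf_union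

theorem IW_le_JW {W : Set (Idx d n)} (hW : IsLowerSet W) : IW K W ≤ JW K W := by
  unfold IW JW
  refine sup_le ?_ ?_
  · exact le_iInf fun w => le_iInf fun _ =>
      (plIdealTop_le_vanishing K).trans (ShuffleVanish.vanishing_le_schubertVanishing K w)
  · rw [Ideal.span_le]
    rintro _ ⟨θ, hθ, rfl⟩
    simp only [SetLike.mem_coe, Ideal.mem_iInf]
    intro w hw
    exact ShuffleVanish.X_mem_schubertVanishing K fun hle => hθ (hW hle hw)

theorem plIdeal_eq_IW (τ : Idx d n) : plIdeal K τ = IW K (Set.Iic τ) := by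
  unfold plIdeal IW plIdealTop
  rw [Ideal.span_union]
  rfl

theorem schubertVanishing_eq_JW (τ : Idx d n) : schubertVanishing K d n τ = JW K (Set.Iic τ) := by
  unfold JW
  apply le_antisymm
  · exact le_iInf fun w => le_iInf fun hw => schubertVanishing_mono K hw
  · exact iInf_le_of_le τ (iInf_le _ (Set.mem_Iic.mpr le_rfl))

/-- Spanning: chain monomials in `W` span modulo `IW`. -/
theorem span_W {W : Set (Idx d n)} (hne : W.Nonempty) :
    (⊤ : Submodule K (PlRing K d n)) ≤ (IW K W).restrictScalars K ⊔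
      Submodule.span K (Set.range fun c : Ch W => chainMon K c.2.1) := by
  refine (top_le K).trans (sup_le ?_ ?_)
  · refine le_sup_of_le_left ?_
    intro f hf
    exact plIdealTop_le_IW K W hf
  · rw [Submodule.span_le]
    rintro _ ⟨⟨m, c, hc⟩, rfl⟩
    by_cases h : ∃ w ∈ W, ∀ k, c k ≤ w
    · exact Submodule.mem_sup_right (Submodule.subset_span ⟨⟨m, c, hc, h⟩, rfl⟩)
    · apply Submodule.mem_sup_left
      have hm : 0 < m := by
        by_contra hm
        have hm : m = 0 := by omega
        subst hm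
        obtain ⟨w, hw⟩ := hne
        exact h ⟨w, hw, fun k => k.elim0⟩
      have h0 : c ⟨0, hm⟩ ∉ W := fun hW => h ⟨_, hW, fun k => hc (Fin.mk_le_of_le_val (Nat.zero_le _))⟩
      show chainMon K c ∈ IW K W
      unfold chainMon
      rw [← Finset.mul_prod_erase Finset.univ _ (Finset.mem_univ (⟨0, hm⟩ : Fin m))]
      exact Ideal.mul_mem_right _ _ (X_mem_IW K h0)

end ring

section dom

variable [CommRing K] [IsDomain K] [Infinite K]

/-- The ideal of a union of Schubert varieties is generated by shuffle relations and coordinates. -/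
theorem JW_eq (hd : 0 < d) {W : Set (Idx d n)} (hW : IsLowerSet W) (hne : W.Nonempty) :
    JW K W = IW K W := by
  apply le_antisymm _ (IW_le_JW K hW)
  intro f hf
  have h1 := span_W K hne (Submodule.mem_top (x := f))
  obtain ⟨g, hg, h, hh, rfl⟩ := Submodule.mem_sup.mp h1
  have hg' : g ∈ IW K W := hg
  have hh' : h ∈ JW K W := by
    have : h = (g + h) - g := by ring
    rw [this]
    exact Ideal.sub_mem _ hf (IW_le_JW K hW hg')
  have h2 := K677.LIGr.linearIndependent_mod K hd W (JW K W) (fun w hw => biInf_le _ hw)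
  obtain ⟨l, rfl⟩ := (Finsupp.mem_span_range_iff_exists_finsupp).mp hh
  rw [linearIndependent_iff] at h2
  have h3 := h2 l (by
    rw [Finsupp.linearCombination_apply]
    have h4 : Ideal.Quotient.mk (JW K W) (l.sum fun i a => a • chainMon K i.2.1) = 0 :=
      Ideal.Quotient.eq_zero_iff_mem.mpr hh'
    rw [Finsupp.sum, map_sum] at h4
    exact h4)
  rw [h3]
  simpa using hg'

theorem plIdeal_eq (hd : 0 < d) (τ : Idx d n) : plIdeal K τ = schubertVanishing K d n τ := by
  rw [plIdeal_eq_IW, schubertVanishing_eq_JW, JW_eq K hd (isLowerSet_Iic τ) ⟨τ, Set.mem_Iic.mpr le_rfl⟩]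

/-- A bottom element below two given ones. -/
theorem nonempty_inter {V W : Set (Idx d n)} (hV : IsLowerSet V) (hW : IsLowerSet W) (hVn : V.Nonempty)
    (hWn : W.Nonempty) : (V ∩ W).Nonempty := by
  obtain ⟨a, ha⟩ := hVn
  obtain ⟨b, hb⟩ := hWn
  refine ⟨W4bk4grassmannian.inf a b, hV ?_ ha, hW ?_ hb⟩
  · intro t; exact min_le_left _ _
  · intro t; exact min_le_right _ _

theorem JW_sup (hd : 0 < d) {V W : Set (Idx d n)} (hV : IsLowerSet V) (hW : IsLowerSet W) (hVn : V.Nonempty)
    (hWn : W.Nonempty) : JW K V ⊔ JW K W = JW K (V ∩ W) := by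
  rw [JW_eq K hd hV hVn, JW_eq K hd hW hWn, IW_sup,
    JW_eq K hd (hV.inter hW) (nonempty_inter hV hW hVn hWn)]

theorem schubertVanishing_sup (hd : 0 < d) (a b : Idx d n) :
    schubertVanishing K d n a ⊔ schubertVanishing K d n b =
      schubertVanishing K d n (W4bk4grassmannian.inf a b) := by
  rw [schubertVanishing_eq_JW, schubertVanishing_eq_JW, schubertVanishing_eq_JW,
    JW_sup K hd (isLowerSet_Iic a) (isLowerSet_Iic b) ⟨a, Set.mem_Iic.mpr le_rfl⟩ ⟨b, Set.mem_Iic.mpr le_rfl⟩]
  congr 1
  ext θ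
  simp only [Set.mem_inter_iff, Set.mem_Iic]
  constructor
  · rintro ⟨h1, h2⟩ t
    exact le_min (h1 t) (h2 t)
  · intro h
    exact ⟨fun t => (h t).trans (min_le_left _ _), fun t => (h t).trans (min_le_right _ _)⟩

/-- `J(w)` is the kernel of the restricted Plücker comorphism, a map into a domain. -/
theorem schubertVanishing_eq_ker (hd : 0 < d) (w : Idx d n) :
    schubertVanishing K d n w = RingHom.ker (K677.LIGr.plRes K (K677.LIGr.Sch w)).toRingHom := by
  apply le_antisymm
  · intro f hf
    exact K677.LIGr.plRes_eq_zero_of_mem K w f hf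
  · intro f hf
    rw [K677.LIGr.mem_schubertVanishing_iff]
    -- use the spanning statement and linear independence
    have hne : (Set.Iic w).Nonempty := ⟨w, Set.mem_Iic.mpr le_rfl⟩
    have h1 := span_W K hne (Submodule.mem_top (x := f))
    obtain ⟨g, hg, h, hh, rfl⟩ := Submodule.mem_sup.mp h1
    have hg' : g ∈ schubertVanishing K d n w := by
      rw [schubertVanishing_eq_JW]; exact IW_le_JW K (isLowerSet_Iic w) hg
    have hg0 : K677.LIGr.plRes K (K677.LIGr.Sch w) g = 0 := K677.LIGr.plRes_eq_zero_of_mem K w g hg'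
    have hh0 : K677.LIGr.plRes K (K677.LIGr.Sch w) h = 0 := by
      have : K677.LIGr.plRes K (K677.LIGr.Sch w) (g + h) = 0 := hf
      rwa [map_add, hg0, zero_add] at this
    obtain ⟨l, rfl⟩ := (Finsupp.mem_span_range_iff_exists_finsupp).mp hh
    let e : Ch (Set.Iic w) → (Σ m : ℕ, {c : Fin m → Idx d n // Antitone c ∧ ∀ k, c k ≤ w}) :=
      fun c => ⟨c.1, c.2.1, c.2.2.1, by
        obtain ⟨w', hw', h⟩ := c.2.2.2
        exact fun k => (h k).trans hw'⟩
    have he : Function.Injective e := by
      rintro ⟨m, c, hc⟩ ⟨m', c', hc'⟩ h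
      simp only [e, Sigma.mk.injEq] at h
      obtain ⟨rfl, h⟩ := h
      rw [heq_eq_eq, Subtype.mk.injEq] at h
      subst h
      rfl
    have hli := (K677.LIGr.linearIndependent_plRes_sch K hd w).comp e he
    rw [linearIndependent_iff] at hli
    have hl : l = 0 := by
      apply hli
      rw [Finsupp.linearCombination_apply]
      rw [Finsupp.sum, map_sum] at hh0
      rw [← hh0]
      apply Finset.sum_congr rfl
      intro c _
      rw [map_smul]
      rfl
    rw [hl]
    simp only [Finsupp.sum_zero_index, add_zero]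
    exact (K677.LIGr.mem_schubertVanishing_iff K w g).mp hg'

theorem isPrime_schubertVanishing (hd : 0 < d) (w : Idx d n) :
    (schubertVanishing K d n w).IsPrime := by
  rw [schubertVanishing_eq_ker K hd w]
  exact RingHom.ker_isPrime _

theorem isRadical_schubertVanishing (hd : 0 < d) (w : Idx d n) :
    (schubertVanishing K d n w).IsRadical := (isPrime_schubertVanishing K hd w).isRadical

theorem X_notMem_schubertVanishing (hd : 0 < d) {τ w : Idx d n} (h : τ ≤ w) :
    (X τ : PlRing K d n) ∉ schubertVanishing K d n w := by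
  intro hX
  have h1 := K677.LIGr.linearIndependent_mod K hd {w} (schubertVanishing K d n w)
    (fun w' hw' => by rw [Set.mem_singleton_iff] at hw'; rw [hw'])
  have h2 := h1.ne_zero ⟨1, fun _ => τ, fun _ _ _ => le_rfl, w, rfl, fun _ => h⟩
  apply h2
  rw [Ideal.Quotient.eq_zero_iff_mem]
  simpa [chainMon] using hX

/-- `J(w) ≤ J(w')` iff `w' ≤ w`. -/
theorem schubertVanishing_le_iff (hd : 0 < d) {w w' : Idx d n} :
    schubertVanishing K d n w ≤ schubertVanishing K d n w' ↔ w' ≤ w := by
  constructor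
  · intro h
    by_contra hcon
    exact X_notMem_schubertVanishing K hd le_rfl (h (ShuffleVanish.X_mem_schubertVanishing K hcon))
  · exact schubertVanishing_mono K

end dom

end K676.Schubert
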