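import Groth.Prelude.Def_W4bk4grassmannianPl
import Mathlib.Tactic

/-! Straightening by the shuffle relations: chain monomials span the Plücker ring modulo the shuffle ideal. -/

set_option autoImplicit false
universe u

open MvPolynomial W4bk4grassmannian

namespace K676.Straighten

variable {d n : ℕ}

/-- Sum of the entries of a tuple. -/
def wt (a : Fin d → Fin n) : ℕ := ∑ t, (a t : ℕ)

theorem card_image_eq_iff (a : Fin d → Fin n) :
    (Finset.univ.image a).card = d ↔ Function.Injective a := by
  constructor
  · intro h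
    have h' : (Finset.univ.image a).card = (Finset.univ : Finset (Fin d)).card := by simpa using h
    have := Finset.card_image_iff.mp h'
    simpa using this
  · intro h
    rw [Finset.card_image_of_injective _ h]; simp

theorem wt_sortIdx (a : Fin d → Fin n) (h : (Finset.univ.image a).card = d) :
    wt (sortIdx d n a h).1 = wt a := by
  have hinj := (card_image_eq_iff a).mp h
  unfold wt
  have h1 : ∑ x ∈ Finset.univ.image a, (x : ℕ) = ∑ t, (a t : ℕ) :=
    Finset.sum_image fun x _ y _ hxy => hinj hxy
  have h2 : ∑ x ∈ Finset.univ.image (fun t => (Finset.univ.image a).orderEmbOfFin h t), (x : ℕ)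
      = ∑ t, ((Finset.univ.image a).orderEmbOfFin h t : ℕ) :=
    Finset.sum_image fun x _ y _ hxy => ((Finset.univ.image a).orderEmbOfFin h).injective hxy
  rw [← h1, ← Finset.image_orderEmbOfFin_univ (Finset.univ.image a) h, h2]
  rfl

theorem image_sortIdx (a : Fin d → Fin n) (h : (Finset.univ.image a).card = d) :
    Finset.univ.image (sortIdx d n a h).1 = Finset.univ.image a :=
  Finset.image_orderEmbOfFin_univ _ h

/-- If `a` dominates the increasing `i` pointwise, so does its sorted rearrangement. -/
theorem le_sortIdx (i : Idx d n) (a : Fin d → Fin n) (h : (Finset.univ.image a).card = d)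
    (hi : ∀ t, i.1 t ≤ a t) : i ≤ sortIdx d n a h := by
  have hinj := (card_image_eq_iff a).mp h
  intro t
  by_contra hlt
  rw [not_le] at hlt
  -- the entries of the sorted tuple at positions ≤ t are values of `a`
  have key : ∀ s : Fin d, ∃ s' : Fin d, a s' = (sortIdx d n a h).1 s := by
    intro s
    have : (sortIdx d n a h).1 s ∈ Finset.univ.image (sortIdx d n a h).1 :=
      Finset.mem_image_of_mem _ (Finset.mem_univ _)
    rw [image_sortIdx] at this
    simpa using this
  choose f hf using key
  have finj : Function.Injective f := by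
    intro x y hxy
    have : (sortIdx d n a h).1 x = (sortIdx d n a h).1 y := by rw [← hf, ← hf, hxy]
    exact (sortIdx d n a h).2.injective this
  have hlt' : ∀ s ≤ t, f s < t := by
    intro s hs
    have h1 : i.1 (f s) ≤ a (f s) := hi _
    rw [hf] at h1
    have h2 : (sortIdx d n a h).1 s ≤ (sortIdx d n a h).1 t := (sortIdx d n a h).2.monotone hs
    exact i.2.lt_iff_lt.mp (lt_of_le_of_lt (h1.trans h2) hlt)
  have hmaps : ∀ s ∈ Finset.Iic t, f s ∈ Finset.Iio t := by
    intro s hs; simpa using hlt' s (by simpa using hs)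
  have := Finset.card_le_card_of_injOn f hmaps finj.injOn
  simp at this

theorem sortIdx_le (j : Idx d n) (a : Fin d → Fin n) (h : (Finset.univ.image a).card = d)
    (hj : ∀ t, a t ≤ j.1 t) : sortIdx d n a h ≤ j := by
  have hinj := (card_image_eq_iff a).mp h
  intro t
  by_contra hlt
  rw [not_le] at hlt
  have key : ∀ s : Fin d, ∃ s' : Fin d, a s' = (sortIdx d n a h).1 s := by
    intro s
    have : (sortIdx d n a h).1 s ∈ Finset.univ.image (sortIdx d n a h).1 :=
      Finset.mem_image_of_mem _ (Finset.mem_univ _)
    rw [image_sortIdx] at this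
    simpa using this
  choose f hf using key
  have finj : Function.Injective f := by
    intro x y hxy
    have : (sortIdx d n a h).1 x = (sortIdx d n a h).1 y := by rw [← hf, ← hf, hxy]
    exact (sortIdx d n a h).2.injective this
  have hlt' : ∀ s, t ≤ s → t < f s := by
    intro s hs
    have h1 : a (f s) ≤ j.1 (f s) := hj _
    rw [hf] at h1
    have h2 : (sortIdx d n a h).1 t ≤ (sortIdx d n a h).1 s := (sortIdx d n a h).2.monotone hs
    exact j.2.lt_iff_lt.mp (lt_of_lt_of_le hlt (h2.trans h1))
  have hmaps : ∀ s ∈ Finset.Ici t, f s ∈ Finset.Ioi t := by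
    intro s hs; simpa using hlt' s (by simpa using hs)
  have := Finset.card_le_card_of_injOn f hmaps finj.injOn
  simp only [Fin.card_Ici, Fin.card_Ioi] at this
  have := t.isLt
  omega

theorem invCount_of_strictMono {a : Fin d → Fin n} (h : StrictMono a) : invCount d n a = 0 := by
  unfold invCount
  rw [Finset.card_eq_zero, Finset.filter_eq_empty_iff]
  rintro p - ⟨h1, h2⟩
  exact absurd (h h1) (not_lt.mpr h2.le)

theorem card_image_idx (i : Idx d n) : (Finset.univ.image i.1).card = d :=
  (card_image_eq_iff i.1).mpr i.2.injective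

theorem sortIdx_idx (i : Idx d n) (h : (Finset.univ.image i.1).card = d) : sortIdx d n i.1 h = i := by
  apply le_antisymm
  · exact sortIdx_le i i.1 h fun t => le_rfl
  · exact le_sortIdx i i.1 h fun t => le_rfl

theorem coord_idx (K : Type u) [CommRing K] (i : Idx d n) : coord K d n i.1 = X i := by
  unfold coord
  rw [dif_pos (card_image_idx i), invCount_of_strictMono i.2, sortIdx_idx]
  simp

theorem movingRows_strictMono (i j : Idx d n) (r : Fin d) (h : i.1 r < j.1 r) :
    StrictMono (movingRows i j r) := by
  intro a b hab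
  unfold movingRows
  split_ifs with h1 h2 h2
  · exact i.2 hab
  · calc i.1 ⟨a.val, _⟩ ≤ i.1 r := i.2.monotone h1
      _ < j.1 r := h
      _ ≤ _ := j.2.monotone (by rw [Fin.le_def]; show r.val ≤ b.val - 1; omega)
  · exfalso; rw [Fin.lt_def] at hab; omega
  · apply j.2
    rw [Fin.lt_def] at hab ⊢
    show a.val - 1 < b.val - 1
    omega

theorem le_orderEmbOfFin {m k : ℕ} (A : Finset (Fin m)) (hA : A.card = k) (t : Fin k) :
    t.val ≤ (A.orderEmbOfFin hA t).val := by
  have : ∀ (s : ℕ) (hs : s < k), s ≤ (A.orderEmbOfFin hA ⟨s, hs⟩).val := by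
    intro s
    induction s with
    | zero => intro _; exact Nat.zero_le _
    | succ s ih =>
      intro hs
      have h1 := ih (by omega)
      have h2 : A.orderEmbOfFin hA ⟨s, by omega⟩ < A.orderEmbOfFin hA ⟨s + 1, hs⟩ :=
        (A.orderEmbOfFin hA).strictMono (by rw [Fin.lt_def]; exact Nat.lt_succ_self s)
      rw [Fin.lt_def] at h2
      omega
  exact this t.val t.isLt

theorem orderEmbOfFin_le {m k : ℕ} (A : Finset (Fin m)) (hA : A.card = k) (t : Fin k) :
    (A.orderEmbOfFin hA t).val + k ≤ t.val + m := by
  have : ∀ (s : ℕ) (hs : s < k), (A.orderEmbOfFin hA ⟨k - 1 - s, by omega⟩).val + s < m := by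
    intro s
    induction s with
    | zero => intro _; simp
    | succ s ih =>
      intro hs
      have h1 := ih (by omega)
      have h2 : A.orderEmbOfFin hA ⟨k - 1 - (s + 1), by omega⟩ < A.orderEmbOfFin hA ⟨k - 1 - s, by omega⟩ :=
        (A.orderEmbOfFin hA).strictMono (by rw [Fin.lt_def]; show k - 1 - (s + 1) < k - 1 - s; omega)
      rw [Fin.lt_def] at h2
      omega
  have h := this (k - 1 - t.val) (by have := t.isLt; omega)
  have ht : (⟨k - 1 - (k - 1 - t.val), by have := t.isLt; omega⟩ : Fin k) = t := by
    ext; show k - 1 - (k - 1 - t.val) = t.val; have := t.isLt; omega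
  rw [ht] at h
  have := t.isLt
  omega

/-- The position set of the identity shuffle. -/
def A0 (r : Fin d) : Finset (Fin (d + 1)) := Finset.univ.filter fun a => a.val ≤ r.val

theorem card_A0 (r : Fin d) : (A0 r).card = r.val + 1 := by
  have : A0 r = Finset.Iic (⟨r.val, by omega⟩ : Fin (d + 1)) := by
    ext a; simp [A0, Fin.le_def]
  rw [this]; simp

theorem A0_orderEmb (r : Fin d) (t : Fin (r.val + 1)) :
    ((A0 r).orderEmbOfFin (card_A0 r) t).val = t.val := by
  have h1 : (fun t : Fin (r.val + 1) => (⟨t.val, by have := t.isLt; omega⟩ : Fin (d + 1)))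
      = (A0 r).orderEmbOfFin (card_A0 r) := by
    apply Finset.orderEmbOfFin_unique
    · intro x; simp [A0]; have := x.isLt; omega
    · intro a b hab; exact hab
  rw [← h1]

theorem card_A0c (r : Fin d) : (A0 r)ᶜ.card = d - r.val := by
  rw [Finset.card_compl, card_A0, Fintype.card_fin]; omega

theorem A0c_orderEmb (r : Fin d) (t : Fin (d - r.val)) :
    ((A0 r)ᶜ.orderEmbOfFin (card_A0c r) t).val = t.val + r.val + 1 := by
  have h1 : (fun t : Fin (d - r.val) => (⟨t.val + r.val + 1, by have := t.isLt; omega⟩ : Fin (d + 1)))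
      = (A0 r)ᶜ.orderEmbOfFin (card_A0c r) := by
    apply Finset.orderEmbOfFin_unique
    · intro x; simp [A0]
    · intro a b hab
      rw [Fin.lt_def] at hab ⊢
      show a.val + r.val + 1 < b.val + r.val + 1
      omega
  rw [← h1]

theorem eq_A0_of_orderEmb {r : Fin d} {A : Finset (Fin (d + 1))} (hA : A.card = r.val + 1)
    (h : ∀ t, (A.orderEmbOfFin hA t).val ≤ t.val) : A = A0 r := by
  have : A ⊆ A0 r := by
    intro x hx
    have : x ∈ Set.range (A.orderEmbOfFin hA) := by rw [Finset.range_orderEmbOfFin]; exact hx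
    obtain ⟨t, rfl⟩ := this
    simp only [A0, Finset.mem_filter, Finset.mem_univ, true_and]
    have := h t; have := t.isLt; omega
  exact Finset.eq_of_subset_of_card_le this (by rw [hA, card_A0])

section shuffles

variable (i j : Idx d n) (r : Fin d)

theorem shuffleI_A0 : shuffleI i j r (A0 r) (card_A0 r) = i.1 := by
  funext t
  unfold shuffleI
  split_ifs with h
  · unfold movingRows
    have h1 := A0_orderEmb r ⟨t.val, by omega⟩
    rw [dif_pos (by rw [h1]; exact h)]
    exact congrArg i.1 (Fin.ext h1)
  · rfl

theorem shuffleJ_A0 : shuffleJ i j r (A0 r) (card_A0 r) = j.1 := by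
  funext t
  unfold shuffleJ
  split_ifs with h
  · rfl
  · unfold movingRows
    have h1 := A0c_orderEmb r ⟨t.val - r.val, by have := t.isLt; omega⟩
    have h2 : ¬ (((A0 r)ᶜ.orderEmbOfFin (card_A0c r)) ⟨t.val - r.val, by have := t.isLt; omega⟩).val ≤ r.val := by
      rw [h1]; simp only; omega
    rw [dif_neg h2]
    refine congrArg j.1 (Fin.ext ?_)
    show _ - 1 = t.val
    rw [h1]; simp only; omega

theorem shuffleSign_A0 : shuffleSign r (A0 r) = 0 := by
  unfold shuffleSign
  have h1 : (A0 r).sum (fun a => a.val) = ∑ t : Fin (r.val + 1), t.val := by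
    have h2 : (A0 r) = Finset.univ.image ((A0 r).orderEmbOfFin (card_A0 r)) :=
      (Finset.image_orderEmbOfFin_univ _ _).symm
    conv_lhs => rw [h2]
    rw [Finset.sum_image fun x _ y _ hxy => ((A0 r).orderEmbOfFin (card_A0 r)).injective hxy]
    apply Finset.sum_congr rfl
    intro t _
    exact A0_orderEmb r t
  rw [h1, Fin.sum_univ_eq_sum_range (fun x => x), Finset.sum_range_id]
  have : (r.val + 1) * (r.val + 1 - 1) = r.val * (r.val + 1) := by
    rw [Nat.add_sub_cancel]; ring
  rw [this]; omega

theorem shuffleTerm_A0 (K : Type u) [CommRing K] : shuffleTerm K i j r (A0 r) = X i * X j := by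
  unfold shuffleTerm
  rw [dif_pos (card_A0 r), shuffleSign_A0, shuffleI_A0, shuffleJ_A0, coord_idx, coord_idx]
  simp

variable {i j r}

theorem le_shuffleI (h : i.1 r < j.1 r) {A : Finset (Fin (d + 1))} (hA : A.card = r.val + 1)
    (t : Fin d) : i.1 t ≤ shuffleI i j r A hA t := by
  unfold shuffleI
  split_ifs with ht
  · have h1 := le_orderEmbOfFin A hA ⟨t.val, by omega⟩
    have h2 : movingRows i j r ⟨t.val, by omega⟩ ≤ movingRows i j r (A.orderEmbOfFin hA ⟨t.val, by omega⟩) :=
      (movingRows_strictMono i j r h).monotone (by rw [Fin.le_def]; exact h1)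
    refine le_trans (le_of_eq ?_) h2
    unfold movingRows
    rw [dif_pos ht]
  · exact le_rfl

theorem shuffleJ_le (h : i.1 r < j.1 r) {A : Finset (Fin (d + 1))} (hA : A.card = r.val + 1)
    (t : Fin d) : shuffleJ i j r A hA t ≤ j.1 t := by
  unfold shuffleJ
  split_ifs with ht
  · exact le_rfl
  · have hC : Aᶜ.card = d - r.val := by rw [Finset.card_compl, hA, Fintype.card_fin]; omega
    have h1 := orderEmbOfFin_le Aᶜ hC ⟨t.val - r.val, by have := t.isLt; omega⟩
    have h2 : movingRows i j r (Aᶜ.orderEmbOfFin hC ⟨t.val - r.val, by have := t.isLt; omega⟩) ≤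
        movingRows i j r ⟨t.val + 1, by have := t.isLt; omega⟩ :=
      (movingRows_strictMono i j r h).monotone (by
        rw [Fin.le_def]; simp only at h1 ⊢; have := t.isLt; have := r.isLt; omega)
    refine le_trans h2 (le_of_eq ?_)
    unfold movingRows
    rw [dif_neg (by simp only; omega)]
    exact congrArg j.1 (Fin.ext (by simp only; omega))

theorem exists_lt_shuffleI (h : i.1 r < j.1 r) {A : Finset (Fin (d + 1))} (hA : A.card = r.val + 1)
    (hne : A ≠ A0 r) : ∃ t : Fin d, i.1 t < shuffleI i j r A hA t := by
  by_contra hcon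
  push Not at hcon
  apply hne
  apply eq_A0_of_orderEmb hA
  intro t
  have ht : t.val < d := by have := t.isLt; have := r.isLt; omega
  have htr : t.val ≤ r.val := by have := t.isLt; omega
  have h1 := hcon ⟨t.val, ht⟩
  unfold shuffleI at h1
  rw [dif_pos htr] at h1
  have h2 : i.1 ⟨t.val, ht⟩ = movingRows i j r ⟨t.val, by omega⟩ := by
    unfold movingRows
    rw [dif_pos htr]
  rw [h2] at h1
  have := (movingRows_strictMono i j r h).le_iff_le.mp h1
  rw [Fin.le_def] at this
  exact this

theorem sum_movingRows (i j : Idx d n) (r : Fin d) (A : Finset (Fin (d + 1))) (hA : A.card = r.val + 1) :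
    wt (shuffleI i j r A hA) + wt (shuffleJ i j r A hA) = wt i.1 + wt j.1 := by
  have hC : Aᶜ.card = d - r.val := by rw [Finset.card_compl, hA, Fintype.card_fin]; omega
  -- general splitting
  have hsplit : ∀ (B : Finset (Fin (d + 1))) (hB : B.card = r.val + 1),
      wt (shuffleI i j r B hB) + wt (shuffleJ i j r B hB) =
      (∑ t : Fin d with r.val < t.val, (i.1 t : ℕ)) + (∑ t : Fin d with t.val < r.val, (j.1 t : ℕ)) +
        ∑ x : Fin (d + 1), (movingRows i j r x : ℕ) := by
    intro B hB
    have hC : Bᶜ.card = d - r.val := by rw [Finset.card_compl, hB, Fintype.card_fin]; omega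
    have h1 : wt (shuffleI i j r B hB) = (∑ t : Fin d with r.val < t.val, (i.1 t : ℕ)) +
        ∑ x ∈ B, (movingRows i j r x : ℕ) := by
      unfold wt
      rw [← Finset.sum_filter_add_sum_filter_not Finset.univ (fun t : Fin d => r.val < t.val)]
      congr 1
      · apply Finset.sum_congr rfl
        intro t ht
        simp only [Finset.mem_filter, Finset.mem_univ, true_and] at ht
        unfold shuffleI
        rw [dif_neg (by omega)]
      · have h2 : ∑ x ∈ B, (movingRows i j r x : ℕ) =
            ∑ t : Fin (r.val + 1), (movingRows i j r (B.orderEmbOfFin hB t) : ℕ) := by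
          conv_lhs => rw [← Finset.image_orderEmbOfFin_univ B hB]
          rw [Finset.sum_image fun x _ y _ hxy => (B.orderEmbOfFin hB).injective hxy]
        rw [h2]
        symm
        apply Finset.sum_bij (fun (t : Fin (r.val + 1)) _ => (⟨t.val, by have := t.isLt; have := r.isLt; omega⟩ : Fin d))
        · intro t _; simp only [Finset.mem_filter, Finset.mem_univ, true_and]; have := t.isLt; omega
        · intro a _ b _ hab
          have := congrArg Fin.val hab
          ext; exact this
        · intro b hb
          simp only [Finset.mem_filter, Finset.mem_univ, true_and] at hb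
          exact ⟨⟨b.val, by omega⟩, Finset.mem_univ _, rfl⟩
        · intro t _
          unfold shuffleI
          rw [dif_pos (by simp only; have := t.isLt; omega)]
    have h3 : wt (shuffleJ i j r B hB) = (∑ t : Fin d with t.val < r.val, (j.1 t : ℕ)) +
        ∑ x ∈ Bᶜ, (movingRows i j r x : ℕ) := by
      unfold wt
      rw [← Finset.sum_filter_add_sum_filter_not Finset.univ (fun t : Fin d => t.val < r.val)]
      congr 1
      · apply Finset.sum_congr rfl
        intro t ht
        simp only [Finset.mem_filter, Finset.mem_univ, true_and] at ht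
        unfold shuffleJ
        rw [dif_pos ht]
      · have h2 : ∑ x ∈ Bᶜ, (movingRows i j r x : ℕ) =
            ∑ t : Fin (d - r.val), (movingRows i j r (Bᶜ.orderEmbOfFin hC t) : ℕ) := by
          conv_lhs => rw [← Finset.image_orderEmbOfFin_univ Bᶜ hC]
          rw [Finset.sum_image fun x _ y _ hxy => (Bᶜ.orderEmbOfFin hC).injective hxy]
        rw [h2]
        symm
        apply Finset.sum_bij (fun (t : Fin (d - r.val)) _ => (⟨t.val + r.val, by have := t.isLt; have := r.isLt; omega⟩ : Fin d))
        · intro t _; simp only [Finset.mem_filter, Finset.mem_univ, true_and]; omega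
        · intro a _ b _ hab
          have := congrArg Fin.val hab
          ext; simp only at this; omega
        · intro b hb
          simp only [Finset.mem_filter, Finset.mem_univ, true_and] at hb
          refine ⟨⟨b.val - r.val, by have := b.isLt; omega⟩, Finset.mem_univ _, ?_⟩
          ext; simp only; omega
        · intro t _
          unfold shuffleJ
          rw [dif_neg (by simp only; omega)]
          refine congrArg (fun x => (movingRows i j r (Bᶜ.orderEmbOfFin hC x) : ℕ)) (Fin.ext ?_)
          simp only; omega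
    rw [h1, h3, ← Finset.sum_add_sum_compl B]
    ring
  rw [hsplit A hA, ← hsplit (A0 r) (card_A0 r), shuffleI_A0, shuffleJ_A0]

end shuffles

theorem isPivot_of_not_le {i j : Idx d n} (h : ¬ j ≤ i) : ∃ r, IsPivot i j r := by
  have h' : ∃ r : Fin d, ¬ j.1 r ≤ i.1 r := by
    by_contra hcon
    push Not at hcon
    exact h fun t => hcon t
  classical
  let S : Finset (Fin d) := Finset.univ.filter fun r => ¬ j.1 r ≤ i.1 r
  have hS : S.Nonempty := by
    obtain ⟨r, hr⟩ := h'
    exact ⟨r, by simp only [S, Finset.mem_filter, Finset.mem_univ, true_and]; exact hr⟩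
  refine ⟨S.min' hS, ?_, ?_⟩
  · intro t ht
    by_contra hcon
    have : t ∈ S := by simp only [S, Finset.mem_filter, Finset.mem_univ, true_and]; exact hcon
    exact absurd (S.min'_le t this) (not_le.mpr ht)
  · have := S.min'_mem hS
    simp only [S, Finset.mem_filter, Finset.mem_univ, true_and] at this
    exact not_le.mp this

section terms

variable (K : Type u) [CommRing K]

/-- Two-factor monomials `X i' * X j'` obtained from `(i, j)` by a nontrivial shuffle. -/
def Shuf (i j : Idx d n) : Set (PlRing K d n) :=
  {f | ∃ i' j' : Idx d n, i < i' ∧ j' < j ∧ wt i'.1 + wt j'.1 = wt i.1 + wt j.1 ∧ wt i.1 < wt i'.1 ∧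
    f = X i' * X j'}

theorem wt_lt {a b : Idx d n} (h : a < b) : wt a.1 < wt b.1 := by
  unfold wt
  have h1 : ∀ t, a.1 t ≤ b.1 t := h.le
  have h2 : ∃ t, a.1 t < b.1 t := by
    by_contra hcon
    push Not at hcon
    exact absurd (show b ≤ a from fun t => hcon t) (not_le_of_gt h)
  apply Finset.sum_lt_sum
  · intro t _; exact h1 t
  · obtain ⟨t, ht⟩ := h2; exact ⟨t, Finset.mem_univ _, ht⟩

theorem shuffleTerm_mem {i j : Idx d n} {r : Fin d} (h : i.1 r < j.1 r) {A : Finset (Fin (d + 1))}
    (hne : A ≠ A0 r) : shuffleTerm K i j r A ∈ Submodule.span K (Shuf K i j) := by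
  unfold shuffleTerm
  split_ifs with hA
  swap
  · exact Submodule.zero_mem _
  unfold coord
  split_ifs with h1 h2 h2
  · have hle : i ≤ sortIdx d n _ h1 := le_sortIdx i _ h1 (le_shuffleI h hA)
    have hge : sortIdx d n _ h2 ≤ j := sortIdx_le j _ h2 (shuffleJ_le h hA)
    have hw : wt (sortIdx d n _ h1).1 + wt (sortIdx d n _ h2).1 = wt i.1 + wt j.1 := by
      rw [wt_sortIdx, wt_sortIdx]; exact sum_movingRows i j r A hA
    have hlt : wt i.1 < wt (sortIdx d n _ h1).1 := by
      rw [wt_sortIdx]
      obtain ⟨t, ht⟩ := exists_lt_shuffleI h hA hne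
      unfold wt
      exact Finset.sum_lt_sum (fun t _ => le_shuffleI h hA t) ⟨t, Finset.mem_univ _, ht⟩
    have hi : i < sortIdx d n _ h1 := lt_of_le_of_ne hle (by intro he; rw [← he] at hlt; exact lt_irrefl _ hlt)
    have hj : sortIdx d n _ h2 < j := lt_of_le_of_ne hge (by intro he; rw [he] at hw; omega)
    have hmem : (X (sortIdx d n _ h1) * X (sortIdx d n _ h2) : PlRing K d n) ∈ Shuf K i j :=
      ⟨_, _, hi, hj, hw, hlt, rfl⟩
    have hkey : ∀ (a b c : ℕ) (x y : PlRing K d n), (-1) ^ a * ((-1) ^ b * x) * ((-1) ^ c * y) =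
        ((-1 : K) ^ (a + b + c)) • (x * y) := by
      intro a b c x y
      rw [Algebra.smul_def, map_pow, map_neg, map_one]
      ring
    rw [hkey]
    exact Submodule.smul_mem _ _ (Submodule.subset_span hmem)
  · simp
  · simp
  · simp

/-- Straightening of a pair: modulo the shuffle ideal `X i * X j` is a combination of `X i' * X j'`, `i < i'`, `j' < j`. -/
theorem X_mul_X_mem {i j : Idx d n} {r : Fin d} (h : IsPivot i j r) :
    (X i * X j : PlRing K d n) ∈
      (plIdealTop (d := d) (n := n) K).restrictScalars K ⊔ Submodule.span K (Shuf K i j) := by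
  classical
  have h1 : shuffleRel K i j r = X i * X j +
      ∑ A ∈ Finset.univ.erase (A0 r), shuffleTerm K i j r A := by
    unfold shuffleRel
    rw [← shuffleTerm_A0 i j r K]
    exact (Finset.add_sum_erase _ _ (Finset.mem_univ _)).symm
  have h2 : (X i * X j : PlRing K d n) = shuffleRel K i j r -
      ∑ A ∈ Finset.univ.erase (A0 r), shuffleTerm K i j r A := by rw [h1]; ring
  rw [h2]
  apply Submodule.sub_mem
  · apply Submodule.mem_sup_left
    show shuffleRel K i j r ∈ plIdealTop (d := d) (n := n) K
    exact Ideal.subset_span ⟨i, j, r, h, rfl⟩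
  · apply Submodule.mem_sup_right
    apply Submodule.sum_mem
    intro A hA
    exact shuffleTerm_mem K h.2 (Finset.ne_of_mem_erase hA)

/-- The `K`-submodule of the Plücker ring spanned by the shuffle ideal and the chain monomials of length `m`. -/
noncomputable def P (d n m : ℕ) : Submodule K (PlRing K d n) :=
  (plIdealTop (d := d) (n := n) K).restrictScalars K ⊔
    Submodule.span K {f | ∃ c' : Fin m → Idx d n, Antitone c' ∧ f = chainMon K c'}

/-- Monomial of a multiset of indices. -/
noncomputable def mon (s : Multiset (Idx d n)) : PlRing K d n := (s.map X).prod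

theorem mon_eq_chainMon {m : ℕ} (c : Fin m → Idx d n) :
    mon K (Finset.univ.val.map c) = chainMon K c := by
  unfold mon chainMon
  rw [Multiset.map_map]
  rfl

/-- measure -/
def mu (s : Multiset (Idx d n)) : ℕ := (s.map fun θ => wt θ.1 ^ 2).sum

theorem wt_le (θ : Idx d n) : wt θ.1 ≤ d * n := by
  unfold wt
  calc ∑ t, (θ.1 t : ℕ) ≤ ∑ _t : Fin d, n := Finset.sum_le_sum fun t _ => (θ.1 t).isLt.le
    _ = d * n := by simp

theorem mu_le (s : Multiset (Idx d n)) : mu s ≤ s.card * (d * n) ^ 2 := by
  unfold mu
  have := Multiset.sum_le_card_nsmul (s.map fun θ => wt θ.1 ^ 2) ((d * n) ^ 2) (by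
    intro x hx
    rw [Multiset.mem_map] at hx
    obtain ⟨θ, _, rfl⟩ := hx
    exact Nat.pow_le_pow_left (wt_le θ) 2)
  simpa using this

theorem exists_chain (m : ℕ) : ∀ (s : Multiset (Idx d n)), s.card = m →
    (∀ a ∈ s, ∀ b ∈ s, a ≤ b ∨ b ≤ a) →
    ∃ c : Fin m → Idx d n, Antitone c ∧ Finset.univ.val.map c = s := by
  induction m with
  | zero =>
    intro s hs _
    refine ⟨fun k => k.elim0, fun a => a.elim0, ?_⟩
    rw [Multiset.card_eq_zero] at hs
    subst hs
    rfl
  | succ m ih =>
    intro s hs hc
    have hne : s ≠ 0 := by rintro rfl; simp at hs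
    -- choose a maximal element of s
    obtain ⟨θ, hθ, hmax⟩ : ∃ θ ∈ s, ∀ b ∈ s, b ≤ θ := by
      classical
      have hfin : s.toFinset.Nonempty := by
        obtain ⟨a, ha⟩ := Multiset.exists_mem_of_ne_zero hne
        exact ⟨a, by simpa using ha⟩
      obtain ⟨θ, hθ1, hθ2⟩ := Finset.exists_maximal hfin
      refine ⟨θ, by simpa using hθ1, fun b hb => ?_⟩
      rcases hc θ (by simpa using hθ1) b hb with h | h
      · exact hθ2 (by simpa using hb) h
      · exact h
    obtain ⟨t, rfl⟩ := Multiset.exists_cons_of_mem hθ
    obtain ⟨c, hc1, hc2⟩ := ih t (by simpa using hs) (fun a ha b hb =>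
      hc a (Multiset.mem_cons_of_mem ha) b (Multiset.mem_cons_of_mem hb))
    refine ⟨Fin.cons θ c, ?_, ?_⟩
    · intro a b hab
      induction a using Fin.cases with
      | zero =>
        induction b using Fin.cases with
        | zero => exact le_rfl
        | succ b' =>
          simp only [Fin.cons_zero, Fin.cons_succ]
          apply hmax
          apply Multiset.mem_cons_of_mem
          rw [← hc2]
          exact Multiset.mem_map_of_mem _ (Finset.mem_val.mpr (Finset.mem_univ _))
      | succ a' =>
        induction b using Fin.cases with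
        | zero => exact absurd hab (by simp)
        | succ b' =>
          simp only [Fin.cons_succ]
          exact hc1 (by simpa using hab)
    · rw [Fin.univ_succ]
      simp only [Finset.cons_val, Multiset.map_cons, Fin.cons_zero, Finset.map_val, Multiset.map_map]
      rw [← hc2]
      rfl

theorem mon_mem (m : ℕ) : ∀ (k : ℕ) (s : Multiset (Idx d n)), s.card = m →
    m * (d * n) ^ 2 ≤ mu s + k → mon K s ∈ P K d n m := by
  intro k
  induction k using Nat.strong_induction_on with
  | _ k ih =>
    intro s hs hk
    by_cases hc : ∀ a ∈ s, ∀ b ∈ s, a ≤ b ∨ b ≤ a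
    · obtain ⟨c, hc1, hc2⟩ := exists_chain m s hs hc
      apply Submodule.mem_sup_right
      apply Submodule.subset_span
      refine ⟨c, hc1, ?_⟩
      rw [← hc2, mon_eq_chainMon]
    · push Not at hc
      obtain ⟨a, ha, b, hb, hab, hba⟩ := hc
      -- wlog wt b ≤ wt a
      have key : ∀ a b : Idx d n, ∀ t : Multiset (Idx d n), s = a ::ₘ b ::ₘ t → ¬ b ≤ a →
          wt b.1 ≤ wt a.1 → mon K s ∈ P K d n m := by
        intro a b t hst hba hw
        obtain ⟨r, hr⟩ := isPivot_of_not_le hba
        have hmon : mon K s = (X a * X b) * mon K t := by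
          rw [hst]; unfold mon; simp [mul_assoc]
        rw [hmon]
        have hX := X_mul_X_mem K hr
        have hmap : (X a * X b * mon K t : PlRing K d n) ∈
            Submodule.map (LinearMap.mulRight K (mon K t))
              ((plIdealTop (d := d) (n := n) K).restrictScalars K ⊔ Submodule.span K (Shuf K a b)) :=
          ⟨_, hX, rfl⟩
        rw [Submodule.map_sup, Submodule.map_span] at hmap
        refine (sup_le ?_ ?_ : _ ≤ P K d n m) hmap
        · rintro _ ⟨f, hf, rfl⟩
          apply Submodule.mem_sup_left
          exact Ideal.mul_mem_right _ _ hf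
        · rw [Submodule.span_le]
          rintro _ ⟨f, ⟨i', j', hi, hj, hsum, hlt, rfl⟩, rfl⟩
          have h2 : (LinearMap.mulRight K (mon K t)) (X i' * X j') = mon K (i' ::ₘ j' ::ₘ t) := by
            simp [mon, mul_assoc]
          rw [h2]
          have hcard : (i' ::ₘ j' ::ₘ t).card = m := by
            rw [← hs, hst]; simp
          have hmu : mu s < mu (i' ::ₘ j' ::ₘ t) := by
            rw [hst]
            simp only [mu, Multiset.map_cons, Multiset.sum_cons]
            obtain ⟨e, he⟩ : ∃ e, wt i'.1 = wt a.1 + e := ⟨wt i'.1 - wt a.1, by omega⟩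
            have he' : wt b.1 = wt j'.1 + e := by omega
            have hepos : 0 < e := by omega
            rw [he, he']
            have hw' : wt j'.1 + e ≤ wt a.1 := by omega
            nlinarith
          have hle := mu_le (i' ::ₘ j' ::ₘ t)
          rw [hcard] at hle
          exact ih (m * (d * n) ^ 2 - mu (i' ::ₘ j' ::ₘ t)) (by omega) _ hcard (by omega)
      have hne : a ≠ b := fun h => hab h.le
      obtain ⟨t', ht'⟩ := Multiset.exists_cons_of_mem ha
      have hb' : b ∈ t' := by
        rw [ht', Multiset.mem_cons] at hb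
        rcases hb with h | h
        · exact absurd h.symm hne
        · exact h
      obtain ⟨t, ht⟩ := Multiset.exists_cons_of_mem hb'
      rcases le_total (wt b.1) (wt a.1) with h | h
      · exact key a b t (by rw [ht', ht]) hba h
      · exact key b a t (by rw [ht', ht, Multiset.cons_swap]) hab h

/-- Straightening: every monomial of degree `m` is, modulo the shuffle ideal, a combination of chain monomials of
length `m`. -/
theorem chainMon_mem {m : ℕ} (c : Fin m → Idx d n) : chainMon K c ∈ P K d n m := by
  rw [← mon_eq_chainMon]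
  exact mon_mem K m _ _ (by simp) (Nat.le_add_left _ _)

theorem exists_multiset_of_monomial (v : Idx d n →₀ ℕ) :
    ∃ s : Multiset (Idx d n), (monomial v (1 : K) : PlRing K d n) = mon K s := by
  classical
  refine ⟨Finsupp.toMultiset v, ?_⟩
  unfold mon
  rw [Finsupp.toMultiset_map, Finsupp.prod_toMultiset, monomial_eq, C_1, one_mul]
  rw [Finsupp.prod_mapDomain_index (by simp) (by intros; rw [pow_add])]

/-- All polynomials are, modulo the shuffle ideal, combinations of chain monomials. -/
theorem top_le : (⊤ : Submodule K (PlRing K d n)) ≤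
    (plIdealTop (d := d) (n := n) K).restrictScalars K ⊔
      Submodule.span K (Set.range fun c : (Σ m : ℕ, {c : Fin m → Idx d n // Antitone c}) =>
        chainMon K c.2.1) := by
  intro f _
  induction f using MvPolynomial.monomial_add_induction_on with
  | C a => 
    have h : (C a : PlRing K d n) = a • chainMon K (fun k : Fin 0 => (k.elim0 : Idx d n)) := by
      simp [chainMon, MvPolynomial.smul_eq_C_mul]
    rw [h]
    apply Submodule.smul_mem
    apply Submodule.mem_sup_right
    exact Submodule.subset_span ⟨⟨0, ⟨fun k => k.elim0, fun a => a.elim0⟩⟩, rfl⟩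
  | monomial_add v b f _ _ ih =>
    refine Submodule.add_mem _ ?_ (ih trivial)
    obtain ⟨s, hs⟩ := exists_multiset_of_monomial K v
    have h : (monomial v b : PlRing K d n) = b • mon K s := by
      rw [← hs, MvPolynomial.smul_monomial, smul_eq_mul, mul_one]
    rw [h]
    apply Submodule.smul_mem
    have h1 := mon_mem K s.card _ s rfl (Nat.le_add_left _ _)
    refine (sup_le_sup_left (Submodule.span_mono ?_) _ : P K d n s.card ≤ _) h1
    rintro _ ⟨c, hc, rfl⟩
    exact ⟨⟨_, ⟨c, hc⟩⟩, rfl⟩

end terms

end K676.Straighten
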