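import Groth.Agent.W4bk4grassmannian.K676.Minors

/-! The Plücker quadrics cut out the vectors of maximal minors. -/

set_option autoImplicit false
universe u v

open MvPolynomial W4bk4grassmannian K676.Straighten K676.ShuffleAlt K676.ShuffleVanish K676.Minors

namespace K676.Quadric

section general

variable {K : Type u} [CommRing K]

theorem alt_sum_apply {M : Type*} [AddCommGroup M] [Module K M] {ι κ : Type*} (s : Finset κ)
    (f : κ → M [⋀^ι]→ₗ[K] K) (v : ι → M) : (∑ i ∈ s, f i) v = ∑ i ∈ s, f i v := by
  let φ : (M [⋀^ι]→ₗ[K] K) →+ K :=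
    { toFun := fun f => f v, map_zero' := rfl, map_add' := fun _ _ => rfl }
  exact map_sum φ f s

/-- The tuple of basis vectors attached to a tuple of indices. -/
def E {m n : ℕ} (a : Fin m → Fin n) : Fin m → (Fin n → K) := fun s => Pi.single (a s) 1

/-- Values of an alternating map at basis tuples through signed coordinates. -/
theorem eval_coord {d n : ℕ} (F : (Fin n → K) [⋀^Fin d]→ₗ[K] K) (a : Fin d → Fin n) :
    eval (fun θ : Idx d n => F (E θ.1)) (coord K d n a) = F (E a) := by
  unfold coord
  split_ifs with h
  · have hinj := (card_image_eq_iff a).mp h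
    have hs : ∀ t, ∃ s, (sortIdx d n a h).1 s = a t := by
      intro t
      have : a t ∈ Finset.univ.image (sortIdx d n a h).1 := by
        rw [image_sortIdx]; exact Finset.mem_image_of_mem _ (Finset.mem_univ _)
      simpa using this
    choose f hf using hs
    have finj : Function.Injective f := by
      intro x y hxy
      apply hinj
      rw [← hf, ← hf, hxy]
    let σ : Equiv.Perm (Fin d) := Equiv.ofBijective f (Finite.injective_iff_bijective.mp finj)
    have hσ : ∀ t, (sortIdx d n a h).1 (σ t) = a t := hf
    have hE : E (K := K) a = E (sortIdx d n a h).1 ∘ σ := by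
      funext s
      unfold E
      simp only [Function.comp_apply, hσ]
    have hinv : invCount d n a = (Finset.univ.filter fun p : Fin d × Fin d => p.1 < p.2 ∧ σ p.2 < σ p.1).card := by
      unfold invCount
      congr 1
      ext p
      simp only [Finset.mem_filter, Finset.mem_univ, true_and]
      rw [← hσ p.2, ← hσ p.1, (sortIdx d n a h).2.lt_iff_lt]
    rw [hE, F.map_perm, sign_eq_pow_inv, hinv, Units.smul_def]
    simp
  · have hinj : ¬ Function.Injective a := fun hi => h ((card_image_eq_iff a).mpr hi)
    rw [Function.not_injective_iff] at hinj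
    obtain ⟨x, y, hxy, hne⟩ := hinj
    rw [map_zero]
    symm
    exact F.map_eq_zero_of_eq _ (by unfold E; rw [hxy]) hne

/-- An alternating map vanishing at sorted basis tuples vanishes. -/
theorem eq_zero_of_idx {d n : ℕ} (F : (Fin n → K) [⋀^Fin d]→ₗ[K] K) (h : ∀ θ : Idx d n, F (E θ.1) = 0) :
    F = 0 := by
  apply Module.Basis.ext_alternating (Pi.basisFun K (Fin n))
  intro v _
  have h1 : (fun i => Pi.basisFun K (Fin n) (v i)) = E v := by
    funext i; simp [E]
  rw [h1, ← eval_coord]
  have h2 : (fun θ : Idx d n => F (E θ.1)) = fun _ => 0 := funext h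
  rw [h2]
  unfold coord
  split_ifs <;> simp

/-- Alternating map with prescribed values at sorted basis tuples. -/
noncomputable def altOf {d n : ℕ} (q : Idx d n → K) : (Fin n → K) [⋀^Fin d]→ₗ[K] K :=
  ∑ θ : Idx d n, q θ • (Matrix.detRowAlternating (n := Fin d) (R := K)).compLinearMap (LinearMap.funLeft K K θ.1)

theorem altOf_E {d n : ℕ} (q : Idx d n → K) (φ : Idx d n) : altOf q (E φ.1) = q φ := by
  unfold altOf
  rw [alt_sum_apply, Finset.sum_eq_single φ]
  · simp only [AlternatingMap.smul_apply, AlternatingMap.compLinearMap_apply, smul_eq_mul]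
    have : (fun i => (LinearMap.funLeft K K φ.1) (E (K := K) φ.1 i)) = (1 : Matrix (Fin d) (Fin d) K) := by
      funext s t
      simp only [LinearMap.funLeft_apply, E, Matrix.one_apply, Pi.single_apply, φ.2.injective.eq_iff]
      by_cases h : s = t
      · subst h; simp
      · rw [if_neg h, if_neg (Ne.symm h)]
    rw [this]
    show q φ * Matrix.det 1 = q φ
    rw [Matrix.det_one, mul_one]
  · intro θ _ hne
    simp only [AlternatingMap.smul_apply, AlternatingMap.compLinearMap_apply, smul_eq_mul]
    have hex : ∃ s, ∀ t, θ.1 t ≠ φ.1 s := by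
      by_contra hcon
      push Not at hcon
      apply hne
      choose f hf using hcon
      have finj : Function.Injective f := by
        intro x y hxy
        apply φ.2.injective
        rw [← hf, ← hf, hxy]
      have fsm : StrictMono f := by
        intro x y hxy
        apply θ.2.lt_iff_lt.mp
        rw [hf, hf]
        exact φ.2 hxy
      have hid : f = id := by
        have h1 : ∀ x, x ≤ f x := fun x => fsm.le_apply
        have hb := (Finite.injective_iff_bijective.mp finj)
        have := Subsingleton.elim (fsm.orderIsoOfSurjective f hb.2) (OrderIso.refl (Fin d))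
        funext x
        exact congrArg (fun g : Fin d ≃o Fin d => g x) this
      apply Subtype.ext
      funext x
      have := hf x
      rw [hid] at this
      exact this
    obtain ⟨s, hs⟩ := hex
    have : Matrix.detRowAlternating (n := Fin d) (R := K)
        (fun i => (LinearMap.funLeft K K θ.1) (E (K := K) φ.1 i)) = 0 := by
      apply Matrix.det_eq_zero_of_row_eq_zero s
      intro t
      simp only [LinearMap.funLeft_apply, E, Pi.single_apply]
      rw [if_neg (hs t)]
    rw [this, mul_zero]
  · intro h; exact absurd (Finset.mem_univ _) h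

variable {V : Type v} [AddCommGroup V] [Module K V] {e : ℕ}

/-- The exchange relation. -/
def Exch (F : V [⋀^Fin (e + 1)]→ₗ[K] K) : Prop :=
  ∀ (u : Fin e → V) (v : Fin (e + 2) → V),
    ∑ h : Fin (e + 2), (-1 : K) ^ (h : ℕ) * (F (Fin.snoc u (v h)) * F (h.removeNth v)) = 0

/-- The alternating map in `e + 2` variables behind the exchange relation. -/
noncomputable def Psi (F : V [⋀^Fin (e + 1)]→ₗ[K] K) (u : Fin e → V) : V [⋀^Fin (e + 2)]→ₗ[K] K :=
  AlternatingMap.alternatizeUncurryFin
    ((F.toMultilinearMap.toLinearMap (Fin.snoc u 0) (Fin.last e)).smulRight F)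

theorem Psi_apply (F : V [⋀^Fin (e + 1)]→ₗ[K] K) (u : Fin e → V) (v : Fin (e + 2) → V) :
    Psi F u v = ∑ h : Fin (e + 2), (-1 : K) ^ (h : ℕ) * (F (Fin.snoc u (v h)) * F (h.removeNth v)) := by
  unfold Psi
  rw [AlternatingMap.alternatizeUncurryFin_apply]
  apply Finset.sum_congr rfl
  intro h _
  rw [LinearMap.smulRight_apply]
  have h1 : F.toMultilinearMap.toLinearMap (Fin.snoc u 0) (Fin.last e) (v h) = F (Fin.snoc u (v h)) := by
    show F (Function.update (Fin.snoc u 0) (Fin.last e) (v h)) = _
    rw [Fin.update_snoc_last]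
  rw [h1, AlternatingMap.smul_apply, smul_eq_mul, zsmul_eq_mul]
  simp

/-- For fixed `v` the left side of the exchange relation is alternating in `u`. -/
noncomputable def Phi (F : V [⋀^Fin (e + 1)]→ₗ[K] K) (v : Fin (e + 2) → V) : V [⋀^Fin e]→ₗ[K] K :=
  ∑ h : Fin (e + 2), ((-1 : K) ^ (h : ℕ) * F (h.removeNth v)) •
    restr F Fin.castSucc (Fin.castSucc_injective e) (fun _ => v h)

omit [AddCommGroup V] in
theorem extend_castSucc (u : Fin e → V) (x : V) :
    Function.extend Fin.castSucc u (fun _ => x) = (Fin.snoc u x : Fin (e + 1) → V) := by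
  funext t
  induction t using Fin.lastCases with
  | last =>
    rw [Function.extend_apply']
    · simp
    · rintro ⟨s, hs⟩
      exact (Fin.castSucc_lt_last s).ne hs
  | cast i => rw [(Fin.castSucc_injective e).extend_apply]; simp

theorem Phi_apply (F : V [⋀^Fin (e + 1)]→ₗ[K] K) (u : Fin e → V) (v : Fin (e + 2) → V) :
    Phi F v u = ∑ h : Fin (e + 2), (-1 : K) ^ (h : ℕ) * (F (Fin.snoc u (v h)) * F (h.removeNth v)) := by
  unfold Phi
  rw [alt_sum_apply]
  apply Finset.sum_congr rfl
  intro h _
  rw [AlternatingMap.smul_apply, restr_apply, extend_castSucc, smul_eq_mul]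
  ring

/-- The determinant satisfies the exchange relation. -/
theorem exch_det : Exch (Matrix.detRowAlternating (n := Fin (e + 1)) (R := K)) := by
  intro u v
  rw [← Psi_apply, alternating_eq_zero (by simp) (Psi _ u)]
  rfl

theorem Exch.comp {W : Type*} [AddCommGroup W] [Module K W] {F : W [⋀^Fin (e + 1)]→ₗ[K] K} (hF : Exch F)
    (L : V →ₗ[K] W) : Exch (F.compLinearMap L) := by
  intro u v
  rw [← hF (fun s => L (u s)) (fun s => L (v s))]
  apply Finset.sum_congr rfl
  intro h _
  simp only [AlternatingMap.compLinearMap_apply]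
  congr 3
  funext s
  induction s using Fin.lastCases with
  | last => simp
  | cast i => simp

/-- The exchange relation from its validity at sorted basis tuples. -/
theorem exch_of_idx {n : ℕ} (F : (Fin n → K) [⋀^Fin (e + 1)]→ₗ[K] K)
    (h : ∀ (i' : Idx e n) (j' : Idx (e + 2) n),
      ∑ h : Fin (e + 2), (-1 : K) ^ (h : ℕ) * (F (Fin.snoc (E i'.1) (E (K := K) j'.1 h)) *
        F (h.removeNth (E j'.1))) = 0) : Exch F := by
  have h1 : ∀ i' : Idx e n, Psi F (E i'.1) = 0 := by
    intro i'
    apply eq_zero_of_idx
    intro j'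
    rw [Psi_apply]
    exact h i' j'
  have h2 : ∀ v, Phi F v = 0 := by
    intro v
    apply eq_zero_of_idx
    intro i'
    rw [Phi_apply, ← Psi_apply, h1]
    rfl
  intro u v
  rw [← Phi_apply, h2]
  rfl

/-- The exchange relation in the form `F(u, x) F(b) = Σ_l F(u, b_l) F(b[l → x])`. -/
theorem Exch.exchange {F : V [⋀^Fin (e + 1)]→ₗ[K] K} (hF : Exch F) (u : Fin e → V) (x : V)
    (b : Fin (e + 1) → V) :
    F (Fin.snoc u x) * F b = ∑ l : Fin (e + 1), F (Fin.snoc u (b l)) * F (Function.update b l x) := by
  have h := hF u (Fin.cons x b)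
  rw [Fin.sum_univ_succ] at h
  have h0 : (0 : Fin (e + 2)).removeNth (Fin.cons x b : Fin (e + 2) → V) = b := by
    funext s; simp [Fin.removeNth]
  have hl : ∀ l : Fin (e + 1), (-1 : K) ^ (l.succ : ℕ) *
      (F (Fin.snoc u ((Fin.cons x b : Fin (e + 2) → V) l.succ)) *
        F (l.succ.removeNth (Fin.cons x b : Fin (e + 2) → V))) =
      - (F (Fin.snoc u (b l)) * F (Function.update b l x)) := by
    intro l
    have h1 : l.succ.removeNth (Fin.cons x b : Fin (e + 2) → V) = Matrix.vecCons x (l.removeNth b) := by
      funext s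
      induction s using Fin.cases with
      | zero => simp [Fin.removeNth]
      | succ s => simp [Fin.removeNth]
    have h2 : F (Matrix.vecCons x (l.removeNth b)) = (-1 : ℤ) ^ (l : ℕ) • F (Function.update b l x) := by
      rw [← AlternatingMap.neg_one_pow_smul_map_insertNth, Fin.insertNth_removeNth]
    rw [h1, h2]
    simp only [Fin.cons_succ, Fin.val_succ, zsmul_eq_mul, Int.cast_pow, Int.cast_neg, Int.cast_one]
    have h3 : (-1 : K) ^ (l : ℕ) * (-1 : K) ^ (l : ℕ) = 1 := by
      rw [← mul_pow]; simp
    calc (-1 : K) ^ ((l : ℕ) + 1) * (F (Fin.snoc u (b l)) * ((-1) ^ (l : ℕ) * F (Function.update b l x)))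
        = -(((-1 : K) ^ (l : ℕ) * (-1 : K) ^ (l : ℕ)) * (F (Fin.snoc u (b l)) * F (Function.update b l x))) := by
          ring
      _ = _ := by rw [h3, one_mul]
  rw [Finset.sum_congr rfl fun l _ => hl l, Finset.sum_neg_distrib, h0] at h
  simp only [Fin.val_zero, pow_zero, one_mul, Fin.cons_zero] at h
  exact sub_eq_zero.mp (by rw [sub_eq_add_neg]; exact h)

theorem E_snoc {m n : ℕ} (a : Fin m → Fin n) (x : Fin n) :
    E (K := K) (Fin.snoc a x : Fin (m + 1) → Fin n) = Fin.snoc (E a) (Pi.single x 1) := by
  funext s
  induction s using Fin.lastCases with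
  | last => simp [E]
  | cast i => simp [E]

theorem E_update {m n : ℕ} (a : Fin m → Fin n) (l : Fin m) (x : Fin n) :
    E (K := K) (Function.update a l x) = Function.update (E a) l (Pi.single x 1) := by
  funext s
  by_cases h : s = l
  · subst h; simp [E]
  · rw [Function.update_of_ne h]; simp [E, Function.update_of_ne h]

/-- The alternating map of maximal minors of a matrix. -/
noncomputable def minAlt {n d : ℕ} (A : Matrix (Fin n) (Fin d) K) : (Fin n → K) [⋀^Fin d]→ₗ[K] K :=
  (Matrix.detRowAlternating (n := Fin d) (R := K)).compLinearMap (Matrix.vecMulLinear A)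

theorem minAlt_E {n d : ℕ} (A : Matrix (Fin n) (Fin d) K) (a : Fin d → Fin n) :
    minAlt A (E a) = (A.submatrix a id).det := by
  unfold minAlt
  rw [AlternatingMap.compLinearMap_apply]
  show Matrix.det _ = _
  congr 1
  funext s t
  simp [E, Matrix.submatrix_apply]

theorem exch_minAlt {n : ℕ} (A : Matrix (Fin n) (Fin (e + 1)) K) : Exch (minAlt A) :=
  exch_det.comp _

theorem eval_quadric {n : ℕ} (q : Idx (e + 1) n → K) (F : (Fin n → K) [⋀^Fin (e + 1)]→ₗ[K] K)
    (hF : ∀ θ : Idx (e + 1) n, F (E θ.1) = q θ) (i' : Idx e n) (j' : Idx (e + 2) n) :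
    eval q (quadric K i' j') = - ∑ h : Fin (e + 2), (-1 : K) ^ (h : ℕ) *
      (F (Fin.snoc (E i'.1) (E (K := K) j'.1 h)) * F (h.removeNth (E j'.1))) := by
  have hq : q = fun θ : Idx (e + 1) n => F (E θ.1) := by funext θ; rw [hF]
  unfold quadric
  rw [map_sum, ← Finset.sum_neg_distrib]
  apply Finset.sum_congr rfl
  intro h _
  rw [map_mul, map_mul, hq, eval_coord, eval_coord, E_snoc]
  have h1 : E (K := K) (j'.1 ∘ h.succAbove) = h.removeNth (E j'.1) := rfl
  have h2 : (Pi.single (j'.1 h) 1 : Fin n → K) = E (K := K) j'.1 h := rfl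
  rw [h1, h2]
  simp only [map_pow, map_neg, map_one]
  ring

end general

section field

variable (K : Type u) [Field K] (e n : ℕ)

theorem det_updateRow_smul_one {d : ℕ} (c : K) (l : Fin (d + 1)) (v : Fin (d + 1) → K) :
    ((c • (1 : Matrix (Fin (d + 1)) (Fin (d + 1)) K)).updateRow l v).det = c ^ d * v l := by
  rw [← Matrix.cramer_transpose_apply, Matrix.cramer_eq_adjugate_mulVec, Matrix.transpose_smul,
    Matrix.transpose_one, Matrix.adjugate_smul, Matrix.adjugate_one]
  simp [Matrix.smul_mulVec]

theorem exists_matrix (F : (Fin n → K) [⋀^Fin (e + 1)]→ₗ[K] K) (hF : Exch F) (θ : Idx (e + 1) n)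
    (hθ : F (E θ.1) ≠ 0) :
    ∃ A : Matrix (Fin n) (Fin (e + 1)) K, ∀ a : Fin (e + 1) → Fin n, (A.submatrix a id).det = F (E a) := by
  classical
  set c := F (E θ.1) with hc
  let A0 : Matrix (Fin n) (Fin (e + 1)) K := Matrix.of fun i l => F (Function.update (E θ.1) l (Pi.single i 1))
  have hA0θ : A0.submatrix θ.1 id = c • (1 : Matrix (Fin (e + 1)) (Fin (e + 1)) K) := by
    ext s t
    rw [Matrix.submatrix_apply, Matrix.smul_apply, Matrix.one_apply, smul_eq_mul]
    show F (Function.update (E θ.1) t (Pi.single (θ.1 s) 1)) = _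
    split_ifs with hst
    · subst hst
      have : Function.update (E (K := K) θ.1) s (Pi.single (θ.1 s) 1) = E θ.1 := by
        funext x
        by_cases hx : x = s
        · subst hx; simp [E]
        · rw [Function.update_of_ne hx]
      rw [this, mul_one]
    · rw [mul_zero]
      apply F.map_eq_zero_of_eq (i := s) (j := t) _ _ hst
      rw [Function.update_of_ne hst, Function.update_self]
      rfl
  have hP1 : minAlt A0 (E θ.1) = c ^ (e + 1) := by
    rw [minAlt_E, hA0θ, Matrix.det_smul, Matrix.det_one, mul_one, Fintype.card_fin]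
  have hP2 : ∀ (l : Fin (e + 1)) (x : Fin n), minAlt A0 (E (Function.update θ.1 l x)) =
      c ^ e * F (Function.update (E θ.1) l (Pi.single x 1)) := by
    intro l x
    rw [minAlt_E]
    have : A0.submatrix (Function.update θ.1 l x) id = (c • (1 : Matrix (Fin (e + 1)) (Fin (e + 1)) K)).updateRow l
        (A0 x) := by
      rw [← hA0θ]
      ext s t
      by_cases hs : s = l
      · subst hs; simp [Matrix.submatrix_apply]
      · rw [Matrix.updateRow_ne hs, Matrix.submatrix_apply, Matrix.submatrix_apply, Function.update_of_ne hs]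
    rw [this, det_updateRow_smul_one]
    rfl
  -- the main induction
  have key : ∀ (N : ℕ) (a : Fin (e + 1) → Fin n),
      (Finset.univ.filter fun k => a k ∉ Set.range θ.1).card = N →
      minAlt A0 (E a) = c ^ e * F (E a) := by
    intro N
    induction N with
    | zero =>
      intro a ha
      have ha' : ∀ k, ∃ t, θ.1 t = a k := by
        intro k
        by_contra hcon
        rw [Finset.card_eq_zero] at ha
        have : k ∈ Finset.univ.filter fun k => a k ∉ Set.range θ.1 := by
          rw [Finset.mem_filter]; exact ⟨Finset.mem_univ _, hcon⟩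
        rw [ha] at this
        simp at this
      choose f hf using ha'
      by_cases hinj : Function.Injective f
      · let σ : Equiv.Perm (Fin (e + 1)) := Equiv.ofBijective f (Finite.injective_iff_bijective.mp hinj)
        have hE : E (K := K) a = E θ.1 ∘ σ := by
          funext s
          show (Pi.single (a s) 1 : Fin n → K) = Pi.single (θ.1 (f s)) 1
          rw [hf]
        rw [hE, AlternatingMap.map_perm, AlternatingMap.map_perm, hP1, Units.smul_def, Units.smul_def]
        simp only [zsmul_eq_mul]
        rw [← hc]; ring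
      · rw [Function.not_injective_iff] at hinj
        obtain ⟨x, y, hxy, hne⟩ := hinj
        have hEq : E (K := K) a x = E a y := by
          unfold E; rw [← hf x, ← hf y, hxy]
        rw [AlternatingMap.map_eq_zero_of_eq _ _ hEq hne, AlternatingMap.map_eq_zero_of_eq _ _ hEq hne, mul_zero]
    | succ N ih =>
      intro a ha
      -- an index outside
      have hex : ∃ k, a k ∉ Set.range θ.1 := by
        have : (Finset.univ.filter fun k => a k ∉ Set.range θ.1).Nonempty := by
          rw [← Finset.card_pos, ha]; omega
        obtain ⟨k, hk⟩ := this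
        exact ⟨k, (Finset.mem_filter.mp hk).2⟩
      obtain ⟨k, hk⟩ := hex
      let σ : Equiv.Perm (Fin (e + 1)) := Equiv.swap k (Fin.last e)
      let a' : Fin (e + 1) → Fin n := a ∘ σ
      have ha' : a' (Fin.last e) = a k := by simp [a', σ]
      have hcard' : (Finset.univ.filter fun k => a' k ∉ Set.range θ.1).card = N + 1 := by
        rw [← ha]
        apply Finset.card_bij (fun x _ => σ x)
        · intro x hx
          simp only [Finset.mem_filter, Finset.mem_univ, true_and] at hx ⊢
          exact hx
        · intro x _ y _ hxy; exact σ.injective hxy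
        · intro y hy
          refine ⟨σ.symm y, ?_, by simp⟩
          simp only [Finset.mem_filter, Finset.mem_univ, true_and] at hy ⊢
          simpa [a'] using hy
      have hmain : minAlt A0 (E a') = c ^ e * F (E a') := by
        let i' : Fin e → Fin n := fun s => a' s.castSucc
        have hsn : a' = Fin.snoc i' (a' (Fin.last e)) := by
          funext s
          induction s using Fin.lastCases with
          | last => simp
          | cast i => simp [i']
        have h1 := (exch_minAlt A0).exchange (E i') (Pi.single (a' (Fin.last e)) 1) (E θ.1)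
        have h2 := hF.exchange (E i') (Pi.single (a' (Fin.last e)) 1) (E θ.1)
        rw [← E_snoc, ← hsn] at h1 h2
        have h3 : ∀ l : Fin (e + 1), minAlt A0 (Fin.snoc (E i') (E (K := K) θ.1 l)) =
            c ^ e * F (Fin.snoc (E i') (E (K := K) θ.1 l)) := by
          intro l
          have : (Fin.snoc (E (K := K) i') (E (K := K) θ.1 l) : Fin (e + 1) → (Fin n → K)) =
              E (Fin.snoc i' (θ.1 l)) := by rw [E_snoc]; rfl
          rw [this]
          apply ih
          -- count
          have hsub : (Finset.univ.filter fun k => (Fin.snoc i' (θ.1 l) : Fin (e + 1) → Fin n) k ∉ Set.range θ.1) =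
              (Finset.univ.filter fun k => a' k ∉ Set.range θ.1).erase (Fin.last e) := by
            ext s
            rw [Finset.mem_erase, Finset.mem_filter, Finset.mem_filter]
            induction s using Fin.lastCases with
            | last => simp
            | cast i => simp [i', (Fin.castSucc_lt_last i).ne]
          rw [hsub, Finset.card_erase_of_mem, hcard']
          · rfl
          · simp only [Finset.mem_filter, Finset.mem_univ, true_and]
            rw [ha']; exact hk
        have h4 : ∀ l : Fin (e + 1), minAlt A0 (Function.update (E θ.1) l (Pi.single (a' (Fin.last e)) 1)) =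
            c ^ e * F (Function.update (E θ.1) l (Pi.single (a' (Fin.last e)) 1)) := by
          intro l
          rw [← E_update, hP2, E_update]
        rw [Finset.sum_congr rfl fun l _ => by rw [h3 l, h4 l], hP1] at h1
        have h5 : ∑ l : Fin (e + 1), c ^ e * F (Fin.snoc (E i') (E (K := K) θ.1 l)) *
            (c ^ e * F (Function.update (E θ.1) l (Pi.single (a' (Fin.last e)) 1))) =
            c ^ e * c ^ e * (F (E a') * c) := by
          rw [hc, h2, Finset.mul_sum]
          apply Finset.sum_congr rfl
          intro l _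
          ring
        rw [h5] at h1
        have hcne : c ^ (e + 1) ≠ 0 := pow_ne_zero _ hθ
        apply mul_right_cancel₀ hcne
        rw [h1]; ring
      have hback : ∀ G : (Fin n → K) [⋀^Fin (e + 1)]→ₗ[K] K, G (E a') = Equiv.Perm.sign σ • G (E a) := by
        intro G
        rw [← G.map_perm]
        rfl
      rw [hback, hback, Units.smul_def, Units.smul_def] at hmain
      simp only [zsmul_eq_mul] at hmain
      have hs : ((Equiv.Perm.sign σ : ℤ) : K) ≠ 0 := by
        rcases Int.units_eq_one_or (Equiv.Perm.sign σ) with h | h <;> simp [h]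
      apply mul_left_cancel₀ hs
      rw [hmain]; ring
  -- normalize
  refine ⟨Matrix.of fun i l => (if l = 0 then (c ^ e)⁻¹ else 1) * A0 i l, ?_⟩
  intro a
  have h1 : (Matrix.of fun i l => (if l = 0 then (c ^ e)⁻¹ else 1) * A0 i l : Matrix (Fin n) (Fin (e + 1)) K).submatrix a id
      = Matrix.of fun s l => (if l = 0 then (c ^ e)⁻¹ else 1) * (A0.submatrix a id) s l := rfl
  rw [h1, Matrix.det_mul_row, ← minAlt_E, key _ a rfl, Fin.prod_univ_succ]
  have hcne : c ^ e ≠ 0 := pow_ne_zero _ hθ
  simp only [if_true, Fin.succ_ne_zero, if_false, Finset.prod_const_one, mul_one]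
  rw [← mul_assoc, inv_mul_cancel₀ hcne, one_mul]

theorem eval_quadric_iff (q : Idx (e + 1) n → K) (hq : q ≠ 0) :
    (∀ (i' : Idx e n) (j' : Idx (e + 2) n), MvPolynomial.eval q (quadric K i' j') = 0) ↔
      ∃ A : Matrix (Fin n) (Fin (e + 1)) K, ∀ θ : Idx (e + 1) n, q θ = (A.submatrix θ.1 id).det := by
  constructor
  · intro h
    have hex : ∃ θ, q θ ≠ 0 := by
      by_contra hcon
      push Not at hcon
      exact hq (funext hcon)
    obtain ⟨θ, hθ⟩ := hex
    have hF : Exch (altOf q) := by
      apply exch_of_idx
      intro i' j'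
      have := eval_quadric q (altOf q) (altOf_E q) i' j'
      rw [h i' j'] at this
      exact neg_eq_zero.mp this.symm
    obtain ⟨A, hA⟩ := exists_matrix K e n (altOf q) hF θ (by rw [altOf_E]; exact hθ)
    exact ⟨A, fun φ => by rw [hA, altOf_E]⟩
  · rintro ⟨A, hA⟩ i' j'
    rw [eval_quadric q (minAlt A) (fun θ => by rw [minAlt_E, hA]) i' j', exch_minAlt A, neg_zero]

end field

end K676.Quadric
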