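import Mathlib.RingTheory.Regular.RegularSequence
import Mathlib.RingTheory.LocalRing.MaximalIdeal.Basic
import Mathlib.RingTheory.Noetherian.Defs
import Mathlib.Tactic

/-! Regular sequences in short exact sequences; the quotient by an intersection of two ideals. -/

set_option autoImplicit false
universe u v

open RingTheory.Sequence Function

namespace K676.RegSeq

variable {A : Type u} [CommRing A]

theorem quot_injective {L M N : Type v} [AddCommGroup L] [AddCommGroup M] [AddCommGroup N] [Module A L]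
    [Module A M] [Module A N] (f : L →ₗ[A] M) (g : M →ₗ[A] N) (hf : Injective f) (hfg : Exact f g)
    {r : A} (hN : IsSMulRegular N r) : Injective (QuotSMulTop.map r f) := by
  have h0 : Exact (0 : L →ₗ[A] L) f := by
    intro x
    constructor
    · intro hx
      exact ⟨0, by rw [LinearMap.zero_apply]; exact (hf (by rw [hx, map_zero])).symm⟩
    · rintro ⟨y, rfl⟩; simp
  have h := QuotSMulTop.map_first_exact_on_four_term_exact_of_isSMulRegular_last (r := r) h0 hfg hN
  rw [← LinearMap.ker_eq_bot, LinearMap.exact_iff.mp h]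
  rw [eq_bot_iff]
  rintro _ ⟨x, rfl⟩
  obtain ⟨x, rfl⟩ := Submodule.mkQ_surjective _ x
  rw [Submodule.mem_bot]
  show QuotSMulTop.map r 0 _ = 0
  rw [map_zero]
  rfl

theorem left_of_middle (rs : List A) : ∀ {L M N : Type v} [AddCommGroup L] [AddCommGroup M] [AddCommGroup N]
    [Module A L] [Module A M] [Module A N] (f : L →ₗ[A] M) (g : M →ₗ[A] N), Injective f → Exact f g →
    Surjective g → IsWeaklyRegular M rs → IsWeaklyRegular N rs.dropLast → IsWeaklyRegular L rs := by
  induction rs with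
  | nil => intros; exact IsWeaklyRegular.nil A _
  | cons r rs ih =>
    intro L M N _ _ _ _ _ _ f g hf hfg hg hM hN
    rw [isWeaklyRegular_cons_iff] at hM ⊢
    have hL : IsSMulRegular L r := hM.1.of_injective f hf
    refine ⟨hL, ?_⟩
    cases rs with
    | nil => exact IsWeaklyRegular.nil A _
    | cons r' rs' =>
      rw [List.dropLast_cons_cons, isWeaklyRegular_cons_iff] at hN
      exact ih (QuotSMulTop.map r f) (QuotSMulTop.map r g) (quot_injective f g hf hfg hN.1)
        (QuotSMulTop.map_exact r hfg hg) (QuotSMulTop.map_surjective r hg) hM.2 hN.2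

theorem middle (rs : List A) : ∀ {L M N : Type v} [AddCommGroup L] [AddCommGroup M] [AddCommGroup N]
    [Module A L] [Module A M] [Module A N] (f : L →ₗ[A] M) (g : M →ₗ[A] N), Injective f → Exact f g →
    Surjective g → IsWeaklyRegular L rs → IsWeaklyRegular N rs → IsWeaklyRegular M rs := by
  induction rs with
  | nil => intros; exact IsWeaklyRegular.nil A _
  | cons r rs ih =>
    intro L M N _ _ _ _ _ _ f g hf hfg hg hL hN
    rw [isWeaklyRegular_cons_iff] at hL hN ⊢
    refine ⟨isSMulRegular_of_range_eq_ker hf (LinearMap.exact_iff.mp hfg).symm hL.1 hN.1, ?_⟩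
    exact ih (QuotSMulTop.map r f) (QuotSMulTop.map r g) (quot_injective f g hf hfg hN.1)
      (QuotSMulTop.map_exact r hfg hg) (QuotSMulTop.map_surjective r hg) hL.2 hN.2

theorem prod (rs : List A) {M N : Type v} [AddCommGroup M] [AddCommGroup N] [Module A M] [Module A N]
    (hM : IsWeaklyRegular M rs) (hN : IsWeaklyRegular N rs) : IsWeaklyRegular (M × N) rs :=
  middle rs (LinearMap.inl A M N) (LinearMap.snd A M N) LinearMap.inl_injective
    (by
      intro x
      constructor
      · intro hx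
        exact ⟨x.1, by ext <;> simp_all⟩
      · rintro ⟨y, rfl⟩; simp) LinearMap.snd_surjective hM hN

section MV

variable (I J : Ideal A)

/-- The diagonal map `A/(I ∩ J) → A/I × A/J`. -/
def diag : (A ⧸ (I ⊓ J)) →ₗ[A] (A ⧸ I) × (A ⧸ J) :=
  (Submodule.factor (inf_le_left : I ⊓ J ≤ I)).prod (Submodule.factor (inf_le_right : I ⊓ J ≤ J))

/-- The difference map `A/I × A/J → A/(I + J)`. -/
def diff : (A ⧸ I) × (A ⧸ J) →ₗ[A] (A ⧸ (I ⊔ J)) :=
  (Submodule.factor (le_sup_left : I ≤ I ⊔ J)).comp (LinearMap.fst A _ _) -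
    (Submodule.factor (le_sup_right : J ≤ I ⊔ J)).comp (LinearMap.snd A _ _)

theorem diag_injective : Injective (diag I J) := by
  rw [← LinearMap.ker_eq_bot, eq_bot_iff]
  intro x hx
  obtain ⟨a, rfl⟩ := Submodule.mkQ_surjective _ x
  rw [LinearMap.mem_ker] at hx
  have h1 : (Submodule.Quotient.mk a : A ⧸ I) = 0 := congrArg Prod.fst hx
  have h2 : (Submodule.Quotient.mk a : A ⧸ J) = 0 := congrArg Prod.snd hx
  rw [Submodule.Quotient.mk_eq_zero] at h1 h2
  rw [Submodule.mem_bot]
  exact (Submodule.Quotient.mk_eq_zero _).mpr ⟨h1, h2⟩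

theorem diff_surjective : Surjective (diff I J) := by
  intro x
  obtain ⟨a, rfl⟩ := Submodule.mkQ_surjective _ x
  refine ⟨(Submodule.Quotient.mk a, 0), ?_⟩
  show (Submodule.Quotient.mk a : A ⧸ (I ⊔ J)) -
    Submodule.factor (le_sup_right : J ≤ I ⊔ J) (0 : A ⧸ J) = _
  rw [map_zero, sub_zero]
  rfl

theorem exact_diag_diff : Exact (diag I J) (diff I J) := by
  rintro ⟨x, y⟩
  obtain ⟨a, rfl⟩ := Submodule.mkQ_surjective _ x
  obtain ⟨b, rfl⟩ := Submodule.mkQ_surjective _ y
  constructor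
  · intro h
    have h1 : (Submodule.Quotient.mk (a - b) : A ⧸ (I ⊔ J)) = 0 := h
    rw [Submodule.Quotient.mk_eq_zero] at h1
    obtain ⟨i, hi, j, hj, hij⟩ := Submodule.mem_sup.mp h1
    refine ⟨Submodule.Quotient.mk (a - i), ?_⟩
    ext
    · show (Submodule.Quotient.mk (a - i) : A ⧸ I) = Submodule.Quotient.mk a
      rw [Submodule.Quotient.eq]
      simpa using hi
    · show (Submodule.Quotient.mk (a - i) : A ⧸ J) = Submodule.Quotient.mk b
      rw [Submodule.Quotient.eq]
      have : a - i - b = j := by rw [sub_right_comm, ← hij]; ring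
      rw [this]; exact hj
  · rintro ⟨c, hc⟩
    obtain ⟨c, rfl⟩ := Submodule.mkQ_surjective _ c
    rw [← hc]
    show (Submodule.Quotient.mk c : A ⧸ (I ⊔ J)) - Submodule.Quotient.mk c = 0
    rw [sub_self]

/-- A sequence weakly regular on `A/I` and `A/J`, and on `A/(I+J)` but for the last term, is weakly regular on
`A/(I ∩ J)`. -/
theorem isWeaklyRegular_inf (rs : List A) (hI : IsWeaklyRegular (A ⧸ I) rs) (hJ : IsWeaklyRegular (A ⧸ J) rs)
    (hIJ : IsWeaklyRegular (A ⧸ (I ⊔ J)) rs.dropLast) : IsWeaklyRegular (A ⧸ (I ⊓ J)) rs :=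
  left_of_middle rs (diag I J) (diff I J) (diag_injective I J) (exact_diag_diff I J) (diff_surjective I J)
    (prod rs hI hJ) hIJ

end MV

theorem isRegular_inf [IsLocalRing A] (I J : Ideal A) (d : ℕ) (_hd : 0 < d) (f : Fin d → A)
    (hf : ∀ k, f k ∈ IsLocalRing.maximalIdeal A)
    (hI : RingTheory.Sequence.IsRegular (A ⧸ I) (List.ofFn f))
    (hJ : RingTheory.Sequence.IsRegular (A ⧸ J) (List.ofFn f))
    (hIJ : RingTheory.Sequence.IsRegular (A ⧸ (I ⊔ J)) ((List.ofFn f).take (d - 1))) :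
    RingTheory.Sequence.IsRegular (A ⧸ (I ⊓ J)) (List.ofFn f) := by
  have hdl : (List.ofFn f).dropLast = (List.ofFn f).take (d - 1) := by
    rw [List.dropLast_eq_take, List.length_ofFn]
  have hw : IsWeaklyRegular (A ⧸ (I ⊓ J)) (List.ofFn f) :=
    isWeaklyRegular_inf I J _ hI.toIsWeaklyRegular hJ.toIsWeaklyRegular (by rw [hdl]; exact hIJ.toIsWeaklyRegular)
  refine ⟨hw, ?_⟩
  intro htop
  -- `A/(I ∩ J)` is nonzero and the sequence lies in the maximal ideal
  have hne : I ≠ ⊤ := by
    rintro rfl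
    apply hI.top_ne_smul
    haveI : Subsingleton (A ⧸ (⊤ : Ideal A)) := Ideal.Quotient.subsingleton_iff.mpr rfl
    exact Subsingleton.elim _ _
  have hle : Ideal.ofList (List.ofFn f) ≤ IsLocalRing.maximalIdeal A := by
    rw [Ideal.ofList, Ideal.span_le]
    intro x hx
    simp only [Set.mem_ofPred_eq] at hx
    rw [List.mem_ofFn] at hx
    obtain ⟨k, rfl⟩ := hx
    exact hf k
  have h1 : (1 : A) ∈ IsLocalRing.maximalIdeal A := by
    have h2 : (Submodule.Quotient.mk 1 : A ⧸ (I ⊓ J)) ∈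
        (Ideal.ofList (List.ofFn f) • ⊤ : Submodule A (A ⧸ (I ⊓ J))) := by rw [← htop]; trivial
    have h3 : (Submodule.Quotient.mk 1 : A ⧸ (I ⊓ J)) ∈
        (IsLocalRing.maximalIdeal A • ⊤ : Submodule A (A ⧸ (I ⊓ J))) := Submodule.smul_mono_left hle h2
    have h4 : (IsLocalRing.maximalIdeal A • ⊤ : Submodule A (A ⧸ (I ⊓ J))) =
        Submodule.map (Submodule.mkQ (I ⊓ J)) (IsLocalRing.maximalIdeal A) := by
      have h5 : (⊤ : Submodule A (A ⧸ (I ⊓ J))) = Submodule.map (Submodule.mkQ (I ⊓ J)) ⊤ := by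
        rw [Submodule.map_top, Submodule.range_mkQ]
      rw [h5, ← Submodule.map_smul'', smul_eq_mul, Ideal.mul_top]
    rw [h4] at h3
    obtain ⟨m, hm, hm'⟩ := h3
    have h6 : m - 1 ∈ I ⊓ J := (Submodule.Quotient.eq _).mp hm'
    have h7 : m - 1 ∈ IsLocalRing.maximalIdeal A := IsLocalRing.le_maximalIdeal hne h6.1
    have : (1 : A) = m - (m - 1) := by ring
    rw [this]
    exact Ideal.sub_mem _ hm h7
  exact (Ideal.ne_top_iff_one _).mp (IsLocalRing.maximalIdeal.isMaximal A).ne_top h1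

end K676.RegSeq
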