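import Mathlib.LinearAlgebra.Alternating.DomCoprod
import Mathlib.LinearAlgebra.Determinant
import Mathlib.GroupTheory.Perm.Fin
import Mathlib.Data.Fintype.Sort
import Mathlib.Tactic

/-! Signed sums over shuffles of alternating maps, and the sign of a permutation by inversions. -/

set_option autoImplicit false
universe u v

open Equiv TensorProduct

namespace K676.ShuffleAlt

/-- The sign of a permutation of `Fin m` through its number of inversions. -/
theorem sign_eq_pow_inv {m : ℕ} (σ : Equiv.Perm (Fin m)) :
    (Equiv.Perm.sign σ : ℤˣ) =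
      (-1) ^ (Finset.univ.filter fun p : Fin m × Fin m => p.1 < p.2 ∧ σ p.2 < σ p.1).card := by
  rw [Equiv.Perm.sign_eq_prod_prod_Ioi]
  have h1 : (∏ i, ∏ j ∈ Finset.Ioi i, (if σ i < σ j then (1 : ℤˣ) else -1)) =
      ∏ p : Fin m × Fin m, (if p.1 < p.2 ∧ σ p.2 < σ p.1 then (-1 : ℤˣ) else 1) := by
    rw [Fintype.prod_prod_type]
    apply Finset.prod_congr rfl
    intro i _
    rw [← Finset.prod_filter_mul_prod_filter_not Finset.univ (fun j => i < j)]
    have h2 : ∏ x with ¬ i < x, (if i < x ∧ σ x < σ i then (-1 : ℤˣ) else 1) = 1 := by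
      apply Finset.prod_eq_one
      intro x hx
      simp only [Finset.mem_filter, Finset.mem_univ, true_and] at hx
      rw [if_neg (fun h => hx h.1)]
    rw [h2, mul_one]
    have h3 : (Finset.univ.filter fun j => i < j) = Finset.Ioi i := by ext; simp
    rw [h3]
    apply Finset.prod_congr rfl
    intro j hj
    have hij : i < j := by simpa using hj
    have hne : σ i ≠ σ j := fun h => hij.ne (σ.injective h)
    by_cases h : σ i < σ j
    · rw [if_pos h, if_neg (fun h' => lt_asymm h h'.2)]
    · rw [if_neg h, if_pos ⟨hij, lt_of_le_of_ne (not_lt.mp h) hne.symm⟩]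
  rw [h1, Finset.prod_ite]
  simp

section card

variable {N : ℕ}

theorem card_lt_orderEmb {p : ℕ} (A : Finset (Fin N)) (hA : A.card = p) (k : Fin p) :
    (A.filter fun x => x < A.orderEmbOfFin hA k).card = k.val := by
  have : (A.filter fun x => x < A.orderEmbOfFin hA k) = (Finset.Iio k).image (A.orderEmbOfFin hA) := by
    ext x
    simp only [Finset.mem_filter, Finset.mem_image, Finset.mem_Iio]
    constructor
    · rintro ⟨hx, hlt⟩
      have : x ∈ Set.range (A.orderEmbOfFin hA) := by rw [Finset.range_orderEmbOfFin]; exact hx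
      obtain ⟨l, rfl⟩ := this
      exact ⟨l, by simpa using hlt, rfl⟩
    · rintro ⟨l, hl, rfl⟩
      exact ⟨Finset.orderEmbOfFin_mem _ _ _, by simpa using hl⟩
  rw [this, Finset.card_image_of_injective _ (A.orderEmbOfFin hA).injective]
  simp

/-- Number of pairs `(a, x)` with `a ∈ A`, `x ∉ A`, `x < a`. -/
theorem card_inv {p : ℕ} (A : Finset (Fin N)) (hA : A.card = p) :
    ((A ×ˢ Aᶜ).filter fun q => q.2 < q.1).card = (A.sum fun a => a.val) - p * (p - 1) / 2 := by
  have h1 : ((A ×ˢ Aᶜ).filter fun q => q.2 < q.1).card = ∑ a ∈ A, (Aᶜ.filter fun x => x < a).card := by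
    rw [Finset.card_filter, Finset.sum_product]
    apply Finset.sum_congr rfl
    intro a _
    rw [Finset.card_filter]
  have h2 : ∀ a : Fin N, (Aᶜ.filter fun x => x < a).card + (A.filter fun x => x < a).card = a.val := by
    intro a
    have h3 : (Finset.univ.filter fun x : Fin N => x < a).card = a.val := by
      have : (Finset.univ.filter fun x : Fin N => x < a) = Finset.Iio a := by ext; simp
      rw [this]; simp
    rw [← h3, ← Finset.card_union_of_disjoint]
    · congr 1
      ext x
      simp only [Finset.mem_union, Finset.mem_filter, Finset.mem_compl, Finset.mem_univ, true_and]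
      tauto
    · rw [Finset.disjoint_left]
      intro x hx hx'
      simp only [Finset.mem_filter, Finset.mem_compl] at hx hx'
      exact hx.1 hx'.1
  have h4 : ∑ a ∈ A, (A.filter fun x => x < a).card = p * (p - 1) / 2 := by
    have : ∑ a ∈ A, (A.filter fun x => x < a).card =
        ∑ k : Fin p, (A.filter fun x => x < A.orderEmbOfFin hA k).card := by
      conv_lhs => rw [← Finset.image_orderEmbOfFin_univ A hA]
      rw [Finset.sum_image fun x _ y _ hxy => (A.orderEmbOfFin hA).injective hxy]
      rw [Finset.image_orderEmbOfFin_univ A hA]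
    rw [this]
    simp only [card_lt_orderEmb]
    rw [Fin.sum_univ_eq_sum_range (fun x => x), Finset.sum_range_id]
  have h5 : ∑ a ∈ A, (Aᶜ.filter fun x => x < a).card + ∑ a ∈ A, (A.filter fun x => x < a).card =
      ∑ a ∈ A, a.val := by
    rw [← Finset.sum_add_distrib]
    exact Finset.sum_congr rfl fun a _ => h2 a
  rw [h1]
  omega

/-- The sign of the shuffle permutation attached to a subset `A` of `Fin N`. -/
theorem sign_shuffle {p q : ℕ} (hN : p + q = N) (A : Finset (Fin N)) (hA : A.card = p)
    (hC : Aᶜ.card = q) :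
    (Equiv.Perm.sign ((finSumEquivOfFinset hA hC).trans
      (finSumFinEquiv.trans (finCongr hN)).symm) : ℤˣ) =
      (-1) ^ ((A.sum fun a => a.val) - p * (p - 1) / 2) := by
  set e0 : Fin p ⊕ Fin q ≃ Fin N := finSumFinEquiv.trans (finCongr hN) with he0
  set eA := finSumEquivOfFinset hA hC with heA
  have hconj : (Equiv.Perm.sign (eA.trans e0.symm) : ℤˣ) = Equiv.Perm.sign (e0.symm.trans eA) := by
    have := Equiv.Perm.sign_symm_trans_trans (eA.trans e0.symm) e0
    rw [← this]
    congr 1
    ext x
    simp
  rw [hconj, sign_eq_pow_inv, ← card_inv A hA]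
  congr 1
  -- bijection between inversions and pairs
  apply Finset.card_bij' (fun x _ => ((e0.symm.trans eA) x.1, (e0.symm.trans eA) x.2))
    (fun y _ => ((e0.symm.trans eA).symm y.1, (e0.symm.trans eA).symm y.2))
  · intro x hx
    simp only [Finset.mem_filter, Finset.mem_univ, true_and] at hx
    obtain ⟨h1, h2⟩ := hx
    simp only [Finset.mem_filter, Finset.mem_product, Finset.mem_compl]
    obtain ⟨a, ha⟩ := e0.surjective x.1
    obtain ⟨b, hb⟩ := e0.surjective x.2
    rw [← ha, ← hb] at h1 h2 ⊢
    simp only [Equiv.trans_apply, Equiv.symm_apply_apply] at h2 ⊢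
    refine ⟨?_, h2⟩
    rcases a with a | a <;> rcases b with b | b
    · exfalso
      have hab : a < b := by
        rw [Fin.lt_def] at h1 ⊢; simpa [he0] using h1
      rw [heA, finSumEquivOfFinset_inl, finSumEquivOfFinset_inl] at h2
      exact lt_asymm hab (by simpa using h2)
    · rw [heA, finSumEquivOfFinset_inl, finSumEquivOfFinset_inr]
      refine ⟨Finset.orderEmbOfFin_mem _ _ _, ?_⟩
      exact Finset.mem_compl.mp (Finset.orderEmbOfFin_mem Aᶜ hC b)
    · exfalso
      rw [Fin.lt_def] at h1
      simp [he0] at h1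
      have := b.isLt
      omega
    · exfalso
      have hab : a < b := by
        rw [Fin.lt_def] at h1 ⊢; simpa [he0] using h1
      rw [heA, finSumEquivOfFinset_inr, finSumEquivOfFinset_inr] at h2
      exact lt_asymm hab (by simpa using h2)
  · intro y hy
    simp only [Finset.mem_filter, Finset.mem_product, Finset.mem_compl] at hy
    obtain ⟨⟨h1, h2⟩, h3⟩ := hy
    simp only [Finset.mem_filter, Finset.mem_univ, true_and, Equiv.apply_symm_apply]
    refine ⟨?_, h3⟩
    have ha : ∃ a, eA (Sum.inl a) = y.1 := by
      have : y.1 ∈ Set.range (A.orderEmbOfFin hA) := by rw [Finset.range_orderEmbOfFin]; exact h1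
      obtain ⟨a, ha⟩ := this
      exact ⟨a, by rw [heA, finSumEquivOfFinset_inl, ha]⟩
    have hb : ∃ b, eA (Sum.inr b) = y.2 := by
      have : y.2 ∈ Set.range (Aᶜ.orderEmbOfFin hC) := by
        rw [Finset.range_orderEmbOfFin]; simpa using h2
      obtain ⟨b, hb⟩ := this
      exact ⟨b, by rw [heA, finSumEquivOfFinset_inr, hb]⟩
    obtain ⟨a, ha⟩ := ha
    obtain ⟨b, hb⟩ := hb
    rw [← ha, ← hb]
    simp only [Equiv.symm_trans_apply, Equiv.symm_symm, Equiv.symm_apply_apply]
    rw [Fin.lt_def]
    simp [he0]
    have := a.isLt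
    omega
  · intro x _; simp
  · intro y _; simp

end card

section main

variable {K : Type u} [CommRing K] {M : Type v} [AddCommGroup M] [Module K M]

/-- The vanishing of a signed sum over shuffles of `p + q` vectors, when all alternating forms in `p + q` variables
vanish. -/
theorem sum_shuffle_eq_zero {p q N : ℕ} (hN : p + q = N)
    (F : M [⋀^Fin p]→ₗ[K] K) (G : M [⋀^Fin q]→ₗ[K] K) (v : Fin N → M)
    (h0 : ∀ H : M [⋀^(Fin p ⊕ Fin q)]→ₗ[K] K, H = 0) :
    ∑ A : {A : Finset (Fin N) // A.card = p},
      (-1 : K) ^ ((A.1.sum fun a => a.val) - p * (p - 1) / 2) *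
        F (fun t => v (A.1.orderEmbOfFin A.2 t)) *
        G (fun t => v (A.1ᶜ.orderEmbOfFin
          (show A.1ᶜ.card = q by rw [Finset.card_compl, A.2, Fintype.card_fin]; omega) t)) = 0 := by
  classical
  set e0 : Fin p ⊕ Fin q ≃ Fin N := finSumFinEquiv.trans (finCongr hN) with he0
  have hcard : ∀ A : {A : Finset (Fin N) // A.card = p}, A.1ᶜ.card = q := fun A => by
    rw [Finset.card_compl, A.2, Fintype.card_fin]; omega
  let H : M [⋀^(Fin p ⊕ Fin q)]→ₗ[K] K :=
    (LinearMap.mul' K K).compAlternatingMap (AlternatingMap.domCoprod F G)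
  have hH : H (v ∘ e0) = 0 := by rw [h0 H]; rfl
  let φ : {A : Finset (Fin N) // A.card = p} → Equiv.Perm.ModSumCongr (Fin p) (Fin q) :=
    fun A => Quotient.mk'' ((finSumEquivOfFinset A.2 (hcard A)).trans e0.symm)
  have hφ : Function.Bijective φ := by
    constructor
    · intro A B hAB
      obtain ⟨⟨s1, s2⟩, hs⟩ := QuotientGroup.leftRel_apply.mp (Quotient.exact' hAB)
      have hs' := inv_mul_eq_iff_eq_mul.mp hs.symm
      -- A = image of inl
      have key : ∀ t : Fin p, B.1.orderEmbOfFin B.2 t = A.1.orderEmbOfFin A.2 (s1 t) := by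
        intro t
        have := congrArg (fun f : Equiv.Perm (Fin p ⊕ Fin q) => f (Sum.inl t)) hs'
        simp only [Equiv.trans_apply, finSumEquivOfFinset_inl, Equiv.Perm.coe_mul,
          Function.comp_apply, Perm.sumCongrHom_apply, Perm.sumCongr_apply, Sum.map_inl] at this
        exact e0.symm.injective this
      apply Subtype.ext
      apply Finset.Subset.antisymm
      · intro x hx
        have : x ∈ Set.range (A.1.orderEmbOfFin A.2) := by rw [Finset.range_orderEmbOfFin]; exact hx
        obtain ⟨t, rfl⟩ := this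
        have h := key (s1.symm t)
        rw [Equiv.apply_symm_apply] at h
        rw [← h]
        exact Finset.orderEmbOfFin_mem _ _ _
      · intro x hx
        have : x ∈ Set.range (B.1.orderEmbOfFin B.2) := by rw [Finset.range_orderEmbOfFin]; exact hx
        obtain ⟨t, rfl⟩ := this
        rw [key t]
        exact Finset.orderEmbOfFin_mem _ _ _
    · intro σ
      induction σ using Quotient.inductionOn' with
      | _ σ =>
        let A : Finset (Fin N) := Finset.univ.image fun t : Fin p => e0 (σ (Sum.inl t))
        have hinj : Function.Injective fun t : Fin p => e0 (σ (Sum.inl t)) :=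
          e0.injective.comp (σ.injective.comp Sum.inl_injective)
        have hA : A.card = p := by
          rw [Finset.card_image_of_injective _ hinj]; simp
        refine ⟨⟨A, hA⟩, ?_⟩
        apply Quotient.sound'
        rw [QuotientGroup.leftRel_apply]
        apply Equiv.Perm.mem_sumCongrHom_range_of_perm_mapsTo_inl
        rintro _ ⟨t, rfl⟩
        have hmem : e0 (σ (Sum.inl t)) ∈ A := Finset.mem_image_of_mem _ (Finset.mem_univ _)
        have : e0 (σ (Sum.inl t)) ∈ Set.range (A.orderEmbOfFin hA) := by
          rw [Finset.range_orderEmbOfFin]; exact hmem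
        obtain ⟨s, hs⟩ := this
        refine ⟨s, ?_⟩
        rw [Equiv.Perm.coe_mul, Function.comp_apply, eq_comm, Equiv.Perm.inv_eq_iff_eq]
        simp only [Equiv.trans_apply, finSumEquivOfFinset_inl]
        rw [hs, Equiv.symm_apply_apply]
  have hsum : H (v ∘ e0) = ∑ σ : Equiv.Perm.ModSumCongr (Fin p) (Fin q),
      LinearMap.mul' K K (AlternatingMap.domCoprod.summand F G σ (v ∘ e0)) := by
    show LinearMap.mul' K K (AlternatingMap.domCoprod F G (v ∘ e0)) = _
    rw [AlternatingMap.domCoprod_apply, _root_.sum_apply, map_sum]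
  rw [← hH, hsum, ← (Equiv.ofBijective φ hφ).sum_comp]
  apply Finset.sum_congr rfl
  intro A _
  rw [Equiv.ofBijective_apply, AlternatingMap.domCoprod.summand_mk'']
  have hsg := sign_shuffle hN A.1 A.2 (hcard A)
  rw [← he0] at hsg
  have hs2 : LinearMap.mul' K K (((Equiv.Perm.sign ((finSumEquivOfFinset A.2 (hcard A)).trans e0.symm)) •
      (MultilinearMap.domCoprod (F : MultilinearMap K (fun _ => M) K) (G : MultilinearMap K (fun _ => M) K) :
        MultilinearMap K (fun _ => M) (TensorProduct K K K)).domDomCongr
        ((finSumEquivOfFinset A.2 (hcard A)).trans e0.symm)) (v ∘ e0)) =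
      LinearMap.mul' K K ((Equiv.Perm.sign ((finSumEquivOfFinset A.2 (hcard A)).trans e0.symm)) •
      ((F fun t => v (e0 (e0.symm (finSumEquivOfFinset A.2 (hcard A) (Sum.inl t))))) ⊗ₜ[K]
        (G fun t => v (e0 (e0.symm (finSumEquivOfFinset A.2 (hcard A) (Sum.inr t))))))) := rfl
  rw [hs2, hsg, Units.smul_def, map_zsmul, LinearMap.mul'_apply]
  simp only [Equiv.apply_symm_apply, finSumEquivOfFinset_inl, finSumEquivOfFinset_inr]
  simp [mul_assoc]

end main

/-- Alternating forms on `R^d` in more than `d` variables vanish. -/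
theorem alternating_eq_zero {K : Type u} [CommRing K] {d : ℕ} {ι : Type*} [Fintype ι]
    (h : d < Fintype.card ι) (H : (Fin d → K) [⋀^ι]→ₗ[K] K) : H = 0 := by
  apply Module.Basis.ext_alternating (Pi.basisFun K (Fin d))
  intro v hv
  have := Fintype.card_le_of_injective v hv
  simp at this
  omega

/-- Restrict an alternating map to some of its variables, the others being fixed. -/
noncomputable def restr {K : Type u} [CommRing K] {M : Type v} [AddCommGroup M] [Module K M] {ι κ : Type*}
    [DecidableEq ι] (f : M [⋀^ι]→ₗ[K] K) (e : κ → ι) (he : Function.Injective e) (B : ι → M) :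
    M [⋀^κ]→ₗ[K] K :=
  have hupd : ∀ [DecidableEq κ] (v : κ → M) (s : κ) (z : M),
      Function.extend e (Function.update v s z) B = Function.update (Function.extend e v B) (e s) z := by
    intro _ v s z
    funext t
    by_cases ht : ∃ k, e k = t
    · obtain ⟨k, rfl⟩ := ht
      rw [he.extend_apply]
      by_cases hk : k = s
      · subst hk; simp
      · rw [Function.update_of_ne hk, Function.update_of_ne (he.ne hk), he.extend_apply]
    · rw [Function.extend_apply' _ _ _ ht, Function.update_of_ne, Function.extend_apply' _ _ _ ht]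
      rintro rfl
      exact ht ⟨s, rfl⟩
  { toFun := fun v => f (Function.extend e v B)
    map_update_add' := by
      intro _ v s x y
      rw [hupd, hupd, hupd, f.map_update_add]
    map_update_smul' := by
      intro _ v s c x
      rw [hupd, hupd, f.map_update_smul]
    map_eq_zero_of_eq' := by
      intro v i j hv hij
      exact f.map_eq_zero_of_eq _ (by rw [he.extend_apply, he.extend_apply, hv]) (he.ne hij) }

theorem restr_apply {K : Type u} [CommRing K] {M : Type v} [AddCommGroup M] [Module K M] {ι κ : Type*}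
    [DecidableEq ι] (f : M [⋀^ι]→ₗ[K] K) (e : κ → ι) (he : Function.Injective e) (B : ι → M)
    (v : κ → M) : restr f e he B v = f (Function.extend e v B) := rfl

end K676.ShuffleAlt
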