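import Groth.Agent.W4bk4grassmannian.K676.Straighten
import Groth.Agent.W4bk4grassmannian.K676.ShuffleAlt

/-! The shuffle relations vanish on the maximal minors of every matrix. -/

set_option autoImplicit false
universe u v

open MvPolynomial W4bk4grassmannian K676.Straighten K676.ShuffleAlt

namespace K676.ShuffleVanish

variable (K : Type u) [CommRing K] {B : Type v} [CommRing B] [Algebra K B] {d n : ℕ}

/-- Evaluation of Plücker polynomials at the maximal minors of a matrix over an algebra. -/
noncomputable def pl (M : Matrix (Fin n) (Fin d) B) : PlRing K d n →ₐ[K] B :=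
  MvPolynomial.aeval fun θ : Idx d n => (M.submatrix θ.1 id).det

@[simp] theorem pl_X (M : Matrix (Fin n) (Fin d) B) (θ : Idx d n) :
    pl K M (X θ) = (M.submatrix θ.1 id).det := by simp [pl]

theorem evalMinors_eq_pl (A : Matrix (Fin n) (Fin d) K) : evalMinors K d n A = pl K A := rfl

theorem pl_coord (M : Matrix (Fin n) (Fin d) B) (a : Fin d → Fin n) :
    pl K M (coord K d n a) = (M.submatrix a id).det := by
  unfold coord
  split_ifs with h
  · have hinj := (card_image_eq_iff a).mp h
    have hs : ∀ t, ∃ s, (sortIdx d n a h).1 s = a t := by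
      intro t
      have : a t ∈ Finset.univ.image (sortIdx d n a h).1 := by
        rw [image_sortIdx]; exact Finset.mem_image_of_mem _ (Finset.mem_univ _)
      simpa using this
    choose f hf using hs
    have finj : Function.Injective f := by
      intro x y hxy
      apply hinj
      rw [← hf, ← hf, hxy]
    let σ : Equiv.Perm (Fin d) := Equiv.ofBijective f (Finite.injective_iff_bijective.mp finj)
    have hσ : ∀ t, (sortIdx d n a h).1 (σ t) = a t := hf
    have hM : M.submatrix a id = (M.submatrix (sortIdx d n a h).1 id).submatrix σ id := by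
      ext x y
      simp only [Matrix.submatrix_apply, id]
      rw [hσ]
    have hinv : invCount d n a = (Finset.univ.filter fun p : Fin d × Fin d => p.1 < p.2 ∧ σ p.2 < σ p.1).card := by
      unfold invCount
      congr 1
      ext p
      simp only [Finset.mem_filter, Finset.mem_univ, true_and]
      rw [← hσ p.2, ← hσ p.1, (sortIdx d n a h).2.lt_iff_lt]
    rw [hM, Matrix.det_permute, sign_eq_pow_inv, hinv]
    simp
  · have hinj : ¬ Function.Injective a := fun hi => h ((card_image_eq_iff a).mpr hi)
    rw [Function.not_injective_iff] at hinj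
    obtain ⟨x, y, hxy, hne⟩ := hinj
    rw [map_zero]
    symm
    apply Matrix.det_zero_of_row_eq hne
    funext z
    simp [hxy]

theorem pl_shuffleRel (M : Matrix (Fin n) (Fin d) B) (i j : Idx d n) (r : Fin d) :
    pl K M (shuffleRel K i j r) = 0 := by
  classical
  have hN : (r.val + 1) + (d - r.val) = d + 1 := by have := r.isLt; omega
  let eI : Fin (r.val + 1) → Fin d := fun s => ⟨s.val, by have := s.isLt; have := r.isLt; omega⟩
  let eJ : Fin (d - r.val) → Fin d := fun s => ⟨s.val + r.val, by have := s.isLt; omega⟩
  have hI : Function.Injective eI := by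
    intro x y h; have := congrArg Fin.val h; exact Fin.ext this
  have hJ : Function.Injective eJ := by
    intro x y h; have := congrArg Fin.val h; simp only [eJ] at this; exact Fin.ext (by omega)
  let F := restr (K := B) (Matrix.detRowAlternating (n := Fin d) (R := B)) eI hI (fun t => M (i.1 t))
  let G := restr (K := B) (Matrix.detRowAlternating (n := Fin d) (R := B)) eJ hJ (fun t => M (j.1 t))
  have h0 := sum_shuffle_eq_zero (K := B) hN F G (fun k => M (movingRows i j r k))
    (alternating_eq_zero (by simp only [Fintype.card_sum, Fintype.card_fin]; omega))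
  have h1 : pl K M (shuffleRel K i j r) =
      ∑ A : {A : Finset (Fin (d + 1)) // A.card = r.val + 1}, pl K M (shuffleTerm K i j r A.1) := by
    unfold shuffleRel
    rw [map_sum]
    rw [← Finset.sum_subtype (Finset.univ.filter fun A : Finset (Fin (d + 1)) => A.card = r.val + 1)
      (by simp) (fun A => pl K M (shuffleTerm K i j r A))]
    symm
    apply Finset.sum_subset (Finset.filter_subset _ _)
    intro A _ hA
    simp only [Finset.mem_filter, Finset.mem_univ, true_and] at hA
    unfold shuffleTerm
    rw [dif_neg hA, map_zero]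
  rw [h1, ← h0]
  apply Finset.sum_congr rfl
  intro A _
  unfold shuffleTerm
  rw [dif_pos A.2, map_mul, map_mul, pl_coord, pl_coord]
  have hs : shuffleSign r A.1 = (A.1.sum fun a => a.val) - (r.val + 1) * (r.val + 1 - 1) / 2 := by
    unfold shuffleSign
    rw [Nat.add_sub_cancel, mul_comm]
  congr 1
  · congr 1
    · rw [hs]; simp
    · show _ = Matrix.det _
      congr 1
      funext t
      show M (shuffleI i j r A.1 A.2 t) = _
      unfold shuffleI
      split_ifs with ht
      · have : t = eI ⟨t.val, by omega⟩ := rfl
        conv_rhs => rw [this]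
        rw [hI.extend_apply]
      · rw [Function.extend_apply']
        rintro ⟨s, hs⟩
        have := congrArg Fin.val hs
        have := s.isLt
        simp only [eI] at *
        omega
  · show _ = Matrix.det _
    congr 1
    funext t
    show M (shuffleJ i j r A.1 A.2 t) = _
    unfold shuffleJ
    split_ifs with ht
    · rw [Function.extend_apply']
      rintro ⟨s, hs⟩
      have := congrArg Fin.val hs
      simp only [eJ] at *
      omega
    · have : t = eJ ⟨t.val - r.val, by have := t.isLt; omega⟩ := by
        apply Fin.ext; simp only [eJ]; omega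
      conv_rhs => rw [this]
      rw [hJ.extend_apply]

theorem plIdealTop_le_ker (M : Matrix (Fin n) (Fin d) B) :
    plIdealTop (d := d) (n := n) K ≤ RingHom.ker (pl K M).toRingHom := by
  unfold plIdealTop
  rw [Ideal.span_le]
  rintro _ ⟨i, j, r, _, rfl⟩
  exact pl_shuffleRel K M i j r

theorem shuffleRel_mem_vanishing (i j : Idx d n) (r : Fin d) :
    shuffleRel K i j r ∈ vanishing K d n := by
  unfold vanishing
  rw [Ideal.mem_iInf]
  intro A
  exact pl_shuffleRel K A i j r

theorem vanishing_le_schubertVanishing (τ : Idx d n) :
    vanishing K d n ≤ schubertVanishing K d n τ := by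
  unfold vanishing schubertVanishing
  exact le_iInf fun A => le_iInf fun _ => iInf_le _ A

theorem plIdealTop_le_vanishing : plIdealTop (d := d) (n := n) K ≤ vanishing K d n := by
  unfold plIdealTop
  rw [Ideal.span_le]
  rintro _ ⟨i, j, r, _, rfl⟩
  exact shuffleRel_mem_vanishing K i j r

theorem X_mem_schubertVanishing {τ φ : Idx d n} (h : ¬ φ ≤ τ) :
    (X φ : PlRing K d n) ∈ schubertVanishing K d n τ := by
  unfold schubertVanishing
  rw [Ideal.mem_iInf]
  intro A
  rw [Ideal.mem_iInf]
  intro hA
  show evalMinors K d n A (X φ) = 0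
  rw [evalMinors_eq_pl, pl_X]
  exact hA φ h

theorem plIdeal_le_schubertVanishing (τ : Idx d n) :
    plIdeal K τ ≤ schubertVanishing K d n τ := by
  unfold plIdeal
  rw [Ideal.span_le]
  rintro _ (⟨i, j, r, _, rfl⟩ | ⟨φ, hφ, rfl⟩)
  · exact vanishing_le_schubertVanishing K τ (shuffleRel_mem_vanishing K i j r)
  · exact X_mem_schubertVanishing K hφ

theorem plIdealTop_le_plIdeal (τ : Idx d n) : plIdealTop (d := d) (n := n) K ≤ plIdeal K τ :=
  Ideal.span_mono Set.subset_union_left

theorem X_mem_plIdeal {τ φ : Idx d n} (h : ¬ φ ≤ τ) : (X φ : PlRing K d n) ∈ plIdeal K τ :=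
  Ideal.subset_span (Or.inr ⟨φ, h, rfl⟩)

theorem schubertVanishing_mono {τ τ' : Idx d n} (h : τ ≤ τ') :
    schubertVanishing K d n τ' ≤ schubertVanishing K d n τ := by
  unfold schubertVanishing
  refine le_iInf fun A => le_iInf fun hA => ?_
  exact iInf_le_of_le A (iInf_le _ fun φ hφ => hA φ fun hle => hφ (hle.trans h))

end K676.ShuffleVanish
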